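import Groth.Agent.CohC3.PushFF
import Groth.Agent.CohC3.FormalFunctions
import Groth.Agent.CohTwo.IdealMulPow
import Groth.Agent.BlowUpBasics.IdealComap
import Groth.Agent.CohFin.Proper
import Groth.Agent.S2416
import Mathlib.RingTheory.Finiteness.Ideal

/-! Formal functions: on the inverse image of an affine open, multiplying by a large power of the ideal
of the exceptional locus kills the higher cohomology. -/

set_option linter.style.haveILetI false
universe u

open CategoryTheory CategoryTheory.Limits AlgebraicGeometry TopologicalSpace Opposite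
open Groth.CohC3 Groth.CohBase

namespace Groth.Lichtenbaum

/-- An element of the base killing the cohomology of a module: a function with affine locus. -/
theorem exists_pow_smul_eq_zero_of_isAffineOpen {R : Type u} [CommRing R] {X : Scheme.{u}}
    [X.Over (Spec (CommRingCat.of R))] [CompactSpace X] [X.IsSeparated] {M : X.Modules}
    (hM : Coh.IsQCoh M) (g : R) (hg : IsAffineOpen
      (X.basicOpen (Coh.toGlobal (X ↘ Spec (CommRingCat.of R)) g : Γ(X, ⊤)))) (q : ℕ)
    (x : Coh.HH X M (q + 1)) : ∃ n : ℕ, g ^ n • x = 0 := by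
  haveI := hM
  set f : Γ(X, ⊤) := Coh.toGlobal (X ↘ Spec (CommRingCat.of R)) g with hf
  obtain ⟨e⟩ := Groth.Agent.S2416.result X f M (q + 1)
  haveI : IsAffine (X.basicOpen f).toScheme := hg
  haveI : M.IsQuasicoherent := hM
  haveI : (M.restrict (X.basicOpen f).ι).IsQuasicoherent :=
    Scheme.Modules.isQuasicoherent_restrictFunctor (X.basicOpen f).ι M
  have h0 : Subsingleton (Coh.HHon X M (X.basicOpen f) (q + 1)) :=
    @Equiv.subsingleton _ _ (equivHTop (abSheaf (M.restrict (X.basicOpen f).ι)) (q + 1)).toEquiv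
      (hVanish_of_isAffineOpen (M.restrict (X.basicOpen f).ι) (isAffineOpen_top _) q)
  haveI : Subsingleton (LocalizedModule (Submonoid.powers f) (Coh.HH X M (q + 1))) :=
    e.symm.toEquiv.subsingleton
  obtain ⟨⟨r, n, rfl⟩, hr⟩ :=
    LocalizedModule.mk_eq.1 (Subsingleton.elim (LocalizedModule.mk x (1 : Submonoid.powers f)) (LocalizedModule.mk 0 1))
  refine ⟨n, ?_⟩
  change (Coh.toGlobal (X ↘ Spec (CommRingCat.of R)) (g ^ n) : Γ(X, ⊤)) • x = 0
  rw [map_pow]
  simp only [Submonoid.smul_def, OneMemClass.coe_one, one_smul, smul_zero] at hr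
  exact hr

/-- A finite module killed by powers of each element of an ideal of a Noetherian ring is killed by a
power of the ideal. -/
theorem exists_pow_smul_top_eq_bot {R : Type*} [CommRing R] [IsNoetherianRing R] {M : Type*} [AddCommGroup M]
    [Module R M] [Module.Finite R M] (I : Ideal R) (h : ∀ g ∈ I, ∀ x : M, ∃ n : ℕ, g ^ n • x = 0) :
    ∃ e : ℕ, I ^ e • (⊤ : Submodule R M) = ⊥ := by
  classical
  obtain ⟨S, hS⟩ := Module.Finite.fg_top (R := R) (M := M)
  have hrad : I ≤ (⊤ : Submodule R M).annihilator.radical := fun g hg => by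
    choose n hn using h g hg
    refine ⟨S.sup n, Submodule.mem_annihilator.2 fun x _ => ?_⟩
    have hx : x ∈ Submodule.span R (S : Set M) := hS.ge trivial
    induction hx using Submodule.span_induction with
    | mem y hy =>
      rw [← Nat.sub_add_cancel (Finset.le_sup (f := n) hy), pow_add, mul_smul, hn, smul_zero]
    | zero => rw [smul_zero]
    | add a b _ _ ha hb => rw [smul_add, ha trivial, hb trivial, add_zero]
    | smul c a _ ha => rw [smul_comm, ha trivial, smul_zero]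
  obtain ⟨e, he⟩ := Ideal.exists_pow_le_of_le_radical_of_fg hrad (IsNoetherian.noetherian I)
  refine ⟨e, le_bot_iff.1 ((Submodule.smul_mono_left he).trans ?_)⟩
  exact (Submodule.annihilator_smul _).le

variable {X Y : Scheme.{u}} (π : X ⟶ Y) [IsProper π]

omit [IsProper π] in
/-- The scalars of the inverse image of an affine open, on an open of it. -/
lemma baseApp_overMap {V : Y.Opens} (hV : IsAffineOpen V) (U : (π ⁻¹ᵁ V).toScheme.Opens)
    (hle : (π ⁻¹ᵁ V).ι ''ᵁ U ≤ π ⁻¹ᵁ V) (a : Γ(Y, V)) :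
    letI : (π ⁻¹ᵁ V).toScheme.Over (Spec (CommRingCat.of Γ(Y, V))) := ⟨overMap π hV⟩
    CohC3.baseApp (π ⁻¹ᵁ V).toScheme U a = π.appLE V ((π ⁻¹ᵁ V).ι ''ᵁ U) hle a := by
  letI : (π ⁻¹ᵁ V).toScheme.Over (Spec (CommRingCat.of Γ(Y, V))) := ⟨overMap π hV⟩
  change (π ⁻¹ᵁ V).toScheme.presheaf.map _
    (Coh.toGlobal ((π ⁻¹ᵁ V).toScheme ↘ Spec (CommRingCat.of Γ(Y, V))) a) = _
  rw [show Coh.toGlobal ((π ⁻¹ᵁ V).toScheme ↘ Spec (CommRingCat.of Γ(Y, V))) a =
    (π ⁻¹ᵁ V).topIso.inv (π.app V a) from CohC3.toGlobal_overMap π hV a]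
  rw [Scheme.Opens.topIso_inv, Scheme.Hom.appLE]
  change X.presheaf.map _ (X.presheaf.map _ (π.app V a)) = X.presheaf.map _ (π.app V a)
  exact congr($((X.presheaf.map_comp _ _).symm) (π.app V a))

/-- Sections of the ideal power are killed in the quotient. -/
theorem map_comp_modPowπ_eq_zero [IsLocallyNoetherian X] (I : Y.IdealSheafData) {G : X.Modules}
    (hG : Coh.IsCoh G) {V : Y.Opens} (hV : IsAffineOpen V) (m : ℕ) :
    letI : (π ⁻¹ᵁ V).toScheme.Over (Spec (CommRingCat.of Γ(Y, V))) := ⟨overMap π hV⟩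
    (Scheme.Modules.restrictFunctor (π ⁻¹ᵁ V).ι).map (Dual3.idealMulι ((I.comap π) ^ m) G) ≫
      Formal.modPowπ (I.ideal ⟨V, hV⟩) m (G.restrict (π ⁻¹ᵁ V).ι) = 0 := by
  letI : (π ⁻¹ᵁ V).toScheme.Over (Spec (CommRingCat.of Γ(Y, V))) := ⟨overMap π hV⟩
  let W : X.Opens := π ⁻¹ᵁ V
  let J := (I.comap π) ^ m
  let θ := Dual3.idealMulι J G
  haveI := hG.1
  haveI : ((Dual3.idealMul J).obj G).IsQuasicoherent := CohTwo.isQCoh_idealMul J G
  haveI : (((Dual3.idealMul J).obj G).restrict W.ι).IsQuasicoherent :=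
    Scheme.Modules.isQuasicoherent_restrictFunctor W.ι _
  haveI : (G.restrict W.ι).IsQuasicoherent := Scheme.Modules.isQuasicoherent_restrictFunctor W.ι _
  refine CohTwo.eq_zero_of_affine_cover _ (fun U : W.toScheme.affineOpens => U.1) (fun U => U.2)
    (fun x => by
      obtain ⟨U, hU, hx⟩ := QCohMod.exists_affine_mem (X := W.toScheme) x
      exact ⟨⟨U, hU⟩, hx⟩) fun U s => ?_
  let UX : X.affineOpens := ⟨W.ι ''ᵁ U.1, U.2.image_of_isOpenImmersion W.ι⟩
  have hUle : UX.1 ≤ π ⁻¹ᵁ V := W.ι_image_le U.1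
  let t : Γ(G, UX.1) := θ.app UX.1 (show Γ((Dual3.idealMul J).obj G, UX.1) from s)
  have ht : t ∈ ((I.ideal ⟨V, hV⟩) ^ m).map (π.appLE V UX.1 hUle).hom •
      (⊤ : Submodule Γ(X, UX.1) Γ(G, UX.1)) := by
    rw [Ideal.map_pow, ← BlowUpBasics.ideal_comap π I ⟨V, hV⟩ UX hUle]
    exact (CohTwo.range_idealMulι_pow _ m G UX.2 t).1 ⟨_, rfl⟩
  refine ((CohC3.isQuot_modPowπ (I.ideal ⟨V, hV⟩) m (G.restrict W.ι)).app_eq_zero_iff _ U.2).2 ?_
  change (show Γ(G.restrict W.ι, U.1) from t) ∈ _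
  refine Submodule.smul_induction_on ht (fun r hr z _ => ?_) (fun a b ha hb => add_mem ha hb)
  have hsm : (show Γ(G.restrict W.ι, U.1) from r • z) =
      (W.ι.appIso U.1).hom r • (show Γ(G.restrict W.ι, U.1) from z) := by
    change r • z = (W.ι.appIso U.1).inv ((W.ι.appIso U.1).hom r) • z
    rw [Iso.hom_inv_id_apply]
  change (show Γ(G.restrict W.ι, U.1) from r • z) ∈ _
  rw [hsm]
  refine Submodule.smul_mem_smul ?_ trivial
  have hr' := Ideal.mem_map_of_mem (W.ι.appIso U.1).hom.hom hr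
  rw [Ideal.map_map] at hr'
  convert hr' using 2
  refine RingHom.ext fun a => (baseApp_overMap π hV U.1 hUle a).trans ?_
  rw [Scheme.Opens.ι_appIso]
  rfl

set_option maxHeartbeats 1200000 in
/-- Over an affine open, a large power of the ideal sheaf kills the higher cohomology and carries the
sections into the ideal. -/
theorem exists_kill_bound [IsLocallyNoetherian Y] [IsLocallyNoetherian X] (I : Y.IdealSheafData)
    (hI : ∀ D : Y.Opens, IsAffineOpen D → Disjoint (D : Set Y) (I.support : Set Y) →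
      IsAffineOpen (π ⁻¹ᵁ D))
    {G : X.Modules} (hG : Coh.IsCoh G) {V : Y.Opens} (hV : IsAffineOpen V) (d : ℕ) :
    ∃ m₀ : ℕ, ∀ m, m₀ ≤ m →
      (∀ q : ℕ, q + 1 ≤ d → ∀ x : Coh.HH (π ⁻¹ᵁ V).toScheme
          (((Dual3.idealMul ((I.comap π) ^ m)).obj G).restrict (π ⁻¹ᵁ V).ι) (q + 1),
        Sheaf.H.map ((toAbF (π ⁻¹ᵁ V).toScheme).map ((Scheme.Modules.restrictFunctor (π ⁻¹ᵁ V).ι).map
          (Dual3.idealMulι ((I.comap π) ^ m) G))) (q + 1) x = 0) ∧
      ∀ s : Γ((Dual3.idealMul ((I.comap π) ^ m)).obj G, π ⁻¹ᵁ V),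
        (show Γ((Scheme.Modules.pushforward π).obj G, V) from
          (Dual3.idealMulι ((I.comap π) ^ m) G).app (π ⁻¹ᵁ V) s) ∈
          I.ideal ⟨V, hV⟩ • (⊤ : Submodule Γ(Y, V) Γ((Scheme.Modules.pushforward π).obj G, V)) := by
  classical
  let W : X.Opens := π ⁻¹ᵁ V
  letI iR : W.toScheme.Over (Spec (CommRingCat.of Γ(Y, V))) := ⟨overMap π hV⟩
  haveI : IsNoetherianRing Γ(Y, V) := IsLocallyNoetherian.component_noetherian ⟨V, hV⟩
  have hp : IsProper (π ∣_ V) :=
    IsZariskiLocalAtTarget.restrict (P := @IsProper) (inferInstance : IsProper π) V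
  haveI : IsProper (W.toScheme ↘ Spec (CommRingCat.of Γ(Y, V))) :=
    MorphismProperty.comp_mem _ _ _ hp inferInstance
  haveI : AlgebraicGeometry.IsNoetherian W.toScheme := CohC3.isNoetherian_of_proper Γ(Y, V) W.toScheme
  haveI : W.toScheme.IsSeparated := ⟨by
    rw [← terminal.comp_from (W.toScheme ↘ Spec (CommRingCat.of Γ(Y, V)))]
    infer_instance⟩
  let Fn := Scheme.Modules.restrictFunctor W.ι
  let F := Fn.obj G
  have hF : Coh.IsCoh F := CohFin.isCoh_restrict hG W
  haveI := hF.1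
  have hfin : ∀ p, Module.Finite Γ(Y, V) (Coh.HH W.toScheme F p) := fun p =>
    CohC3.finite_HH_of_proper Γ(Y, V) W.toScheme hF p
  let IV : Ideal Γ(Y, V) := I.ideal ⟨V, hV⟩
  -- killing
  have hkill : ∀ q : ℕ, ∃ e : ℕ, IV ^ e • (⊤ : Submodule Γ(Y, V) (Coh.HH W.toScheme F (q + 1))) = ⊥ := by
    intro q
    haveI := hfin (q + 1)
    refine exists_pow_smul_top_eq_bot IV fun g hg x =>
      exists_pow_smul_eq_zero_of_isAffineOpen hF.1 g ?_ q x
    refine (W.ι.isAffineOpen_iff_of_isOpenImmersion).1 ?_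
    have hD := hI (Y.basicOpen g) (hV.basicOpen g) (Set.disjoint_left.2 fun y hy hyI =>
      (CohTwo.basicOpen_le_compl_support I (U := ⟨(I.support : Set Y)ᶜ, I.support.2.isOpen_compl⟩)
        rfl hV hg hy) hyI)
    convert hD using 1
    rw [show Coh.toGlobal (W.toScheme ↘ Spec (CommRingCat.of Γ(Y, V))) g = W.topIso.inv (π.app V g)
      from CohC3.toGlobal_overMap π hV g]
    rw [Scheme.preimage_basicOpen, Scheme.Opens.ι_image_basicOpen_topIso_inv]
  choose e he using hkill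
  choose mq hmq using fun q : ℕ => (CohC3.proBij IV hF hfin (q + 1)).ker (e q)
  obtain ⟨m0, hm0, h0⟩ := (CohC3.proBij IV hF hfin 0).ker 1
  refine ⟨max m0 ((Finset.range d).sup mq), fun m hm => ?_⟩
  set J := (I.comap π) ^ m
  let θ := Dual3.idealMulι J G
  haveI := hG.1
  haveI : ((Dual3.idealMul J).obj G).IsQuasicoherent := CohTwo.isQCoh_idealMul J G
  haveI : (Fn.obj ((Dual3.idealMul J).obj G)).IsQuasicoherent :=
    Scheme.Modules.isQuasicoherent_restrictFunctor W.ι _
  have hzero : Fn.map θ ≫ Formal.modPowπ IV m F = 0 := map_comp_modPowπ_eq_zero π I hG hV m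
  have hker : ∀ p n, n ≤ m → ∀ x, CohC3.hmap Γ(Y, V) (Formal.modPowπ IV n F) p
      (CohC3.hmap Γ(Y, V) (Fn.map θ) p x) = 0 := by
    intro p n hn x
    rw [CohC3.hmap_comp, ← CohC3.modPowπ_qTr F (Ideal.pow_le_pow_right hn : IV ^ m ≤ IV ^ n),
      reassoc_of% hzero, zero_comp, CohC3.hmap_zero]
  constructor
  · intro q hq x
    obtain ⟨hq1, hq2⟩ := hmq q
    have hle : mq q ≤ m := (Finset.le_sup (f := mq) (Finset.mem_range.2 (by omega : q < d))).trans
      ((le_max_right _ _).trans hm)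
    have := hq2 (CohC3.hmap Γ(Y, V) (Fn.map θ) (q + 1) x) (hker (q + 1) _ hle x)
    rw [he q] at this
    have h9 := (Submodule.mem_bot _).1 this
    exact h9
  · intro s
    let eF := fun M : X.Modules => (CohC3.secEquiv₀ (Fn.obj M)).trans (CohC3.secW M W)
    have heF : ∀ {M N : X.Modules} (φ : M ⟶ N) x,
        eF N (CohC3.hmap Γ(Y, V) (Fn.map φ) 0 x) = φ.app W (eF M x) := fun {M N} φ x => by
      change CohC3.secW N W (CohC3.secEquiv₀ _ (CohC3.hmap Γ(Y, V) (Fn.map φ) 0 x)) = _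
      rw [CohC3.secEquiv₀_hmap]
      exact CohC3.secW_map φ W _
    have hscal : ∀ (r : Γ(Y, V)) (x : Coh.HH W.toScheme F 0), eF G (r • x) = π.app V r • eF G x := by
      intro r x
      change CohC3.secW G W (CohC3.secEquiv₀ (Fn.obj G) (r • x)) = π.app V r • eF G x
      rw [← CohC3.hmap_smulMod, CohC3.secEquiv₀_hmap, CohC3.smulMod_app]
      refine Eq.trans (congrArg (CohC3.secW G W) ?_) (CohC3.secW_smul G W _ _)
      congr 1
      refine Eq.trans ?_ (CohC3.toGlobal_overMap π hV r)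
      exact congr($(W.toScheme.presheaf.map_id _) _)
    obtain ⟨x, rfl⟩ := (eF _).surjective s
    have hx := h0 (CohC3.hmap Γ(Y, V) (Fn.map θ) 0 x) (hker 0 m0 ((le_max_left _ _).trans hm) x)
    rw [pow_one] at hx
    rw [← heF θ x]
    refine Submodule.smul_induction_on hx (fun r hr y _ => ?_) (fun a b ha hb => ?_)
    · rw [hscal]
      exact Submodule.smul_mem_smul (N := (⊤ : Submodule Γ(Y, V) Γ((Scheme.Modules.pushforward π).obj G, V)))
        hr (n := eF G y) trivial
    · rw [map_add]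
      exact add_mem ha hb

end Groth.Lichtenbaum
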