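import Groth.Agent.Lichtenbaum.CechPush
import Groth.Agent.Lichtenbaum.KillStep
import Groth.Agent.CohFin.AcycEmb
import Groth.Agent.Inter.PushProper
import Groth.Agent.CohTwo.Graft

/-! Killing chains along a proper morphism which is affine over an open subset. -/

set_option linter.style.haveILetI false
universe u

open CategoryTheory CategoryTheory.Limits AlgebraicGeometry TopologicalSpace Opposite
open CategoryTheory.Abelian (Ext)
open Groth.CohBase

namespace Groth.Lichtenbaum

variable {X' X : Scheme.{u}}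

lemma ideal_eq_top_of_disjoint (I : X.IdealSheafData) {D : X.Opens} (hD : IsAffineOpen D)
    (h : Disjoint (D : Set X) (I.support : Set X)) : I.ideal ⟨D, hD⟩ = ⊤ := by
  rw [← PrimeSpectrum.zeroLocus_empty_iff_eq_top]
  have h1 := I.coe_support_inter ⟨D, hD⟩
  rw [Set.disjoint_iff_inter_eq_empty.1 h.symm] at h1
  have h2 : hD.fromSpec '' PrimeSpectrum.zeroLocus (I.ideal ⟨D, hD⟩ : Set Γ(X, D)) = ∅ :=
    hD.fromSpec_image_zeroLocus _ |>.trans h1.symm
  exact Set.image_eq_empty.1 h2

variable (π : X' ⟶ X) [IsProper π]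

lemma comap_pow_support (I : X.IdealSheafData) (m : ℕ) {x : X'} (hx : π x ∉ (I.support : Set X)) :
    x ∉ (((I.comap π) ^ m).support : Set X') := by
  refine CohTwo.notMem_support_pow _ ?_ m
  rw [Scheme.IdealSheafData.support_comap]
  exact hx

/-- Over an affine open away from the support, every section is a section of the ideal power. -/
lemma app_surjective_away (I : X.IdealSheafData) (m : ℕ) (G : X'.Modules) [G.IsQuasicoherent]
    {D : X.Opens} (hD : IsAffineOpen D) (hπD : IsAffineOpen (π ⁻¹ᵁ D))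
    (h : Disjoint (D : Set X) (I.support : Set X)) :
    Function.Surjective ((Dual3.idealMulι ((I.comap π) ^ m) G).app (π ⁻¹ᵁ D)) := by
  intro y
  refine (CohTwo.range_idealMulι_pow _ m G hπD y).2 ?_
  rw [BlowUpBasics.ideal_comap π I ⟨D, hD⟩ ⟨_, hπD⟩ le_rfl, ideal_eq_top_of_disjoint I hD h,
    Ideal.map_top, Ideal.top_pow, Submodule.top_smul]
  trivial

/-- Surjectivity on stalks of the direct image, from affine opens. -/
lemma surjective_stalk_push {G G' : X'.Modules} (θ : G' ⟶ G) (O : X.Opens) {y : X} (hy : y ∈ O)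
    (h : ∀ D : X.Opens, IsAffineOpen D → D ≤ O → Function.Surjective (θ.app (π ⁻¹ᵁ D))) :
    Function.Surjective ((QCohMod.stalk y).map ((Scheme.Modules.pushforward π).map θ)) := by
  intro t
  obtain ⟨U, hU, s, rfl⟩ := CohTwo.stalk_exists_germ ((Scheme.Modules.pushforward π).obj G) y t
  obtain ⟨_, ⟨D, hD, rfl⟩, hyD, hDU⟩ :=
    X.isBasis_affineOpens.exists_subset_of_mem_open (show y ∈ U ⊓ O from ⟨hU, hy⟩) (U ⊓ O).2
  have hle : D ≤ U := le_trans hDU inf_le_left
  obtain ⟨a, ha⟩ := h D hD (le_trans hDU inf_le_right)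
    (CohTwo.res ((Scheme.Modules.pushforward π).obj G) hle s)
  refine ⟨QCohMod.germ ((Scheme.Modules.pushforward π).obj G') y hyD a, ?_⟩
  refine (QCohMod.stalk_map_germ ((Scheme.Modules.pushforward π).map θ) y hyD a).trans ?_
  refine (congrArg (QCohMod.germ ((Scheme.Modules.pushforward π).obj G) y hyD) ha).trans ?_
  exact CohTwo.stalk_germ_res _ y hle hyD s

variable [IsNoetherian X] [X.IsSeparated] [IsLocallyNoetherian X'] {ι : Type u} [Finite ι]
  (V : ι → X.Opens) (W : X.Opens)

/-- The properties of one step of a killing chain. -/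
structure GoodStep (J : X.IdealSheafData) (d : ℕ) (G G' : X'.Modules) (θ : G' ⟶ G) : Prop where
  coh : Coh.IsCoh G'
  mono : Mono θ
  kills : ∀ n q : ℕ, n + q + 1 ≤ d →
    ∀ e : Ext (constZ X'.toTopCat) ((toAbF X').obj (csMod (preFam π V) G' n)) (q + 1),
      e.comp (Ext.mk₀ ((toAbF X').map (csMap (preFam π V) θ n))) (add_zero (q + 1)) = 0
  factor : ∃ a : (Scheme.Modules.pushforward π).obj G' ⟶
      (Dual3.idealMul J).obj ((Scheme.Modules.pushforward π).obj G),
    a ≫ Dual3.idealMulι J _ = (Scheme.Modules.pushforward π).map θ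
  bijective : ∀ x : X', π x ∈ W → π x ∉ (J.support : Set X) →
    Function.Bijective ((QCohMod.stalk x).map θ)
  surjective : ∀ y ∈ W, y ∉ (J.support : Set X) →
    Function.Surjective ((QCohMod.stalk y).map ((Scheme.Modules.pushforward π).map θ))

/-- A large power of the ideal of the bad locus gives a good step. -/
theorem exists_goodStep (hV : ∀ i, IsAffineOpen (V i)) (hcov : ⨆ i, V i = ⊤)
    (hW : ∀ D : X.Opens, IsAffineOpen D → D ≤ W → IsAffineOpen (π ⁻¹ᵁ D))
    (J : X.IdealSheafData) (d : ℕ) {G : X'.Modules} (hG : Coh.IsCoh G) :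
    ∃ (G' : X'.Modules) (θ : G' ⟶ G), GoodStep π V W J d G G' θ := by
  classical
  let I := J * CohTwo.complIdeal W
  have hIsupp : ∀ {y : X}, y ∈ W → y ∉ (J.support : Set X) → y ∉ (I.support : Set X) := by
    intro y hy hyJ hyI
    rw [Scheme.IdealSheafData.support_mul] at hyI
    rcases hyI with h | h
    · exact hyJ h
    · exact CohTwo.notMem_support_complIdeal W hy h
  have hIW : ∀ D : X.Opens, Disjoint (D : Set X) (I.support : Set X) → D ≤ W := by
    intro D hdisj y hy
    by_contra hyW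
    refine Set.disjoint_left.1 hdisj hy ?_
    rw [Scheme.IdealSheafData.support_mul]
    refine Or.inr ?_
    have := CohTwo.coe_compl_support_complIdeal W
    by_contra hc
    exact hyW (this.ge hc)
  have hI : ∀ D : X.Opens, IsAffineOpen D → Disjoint (D : Set X) (I.support : Set X) →
      IsAffineOpen (π ⁻¹ᵁ D) := fun D hD hdisj => hW D hD (hIW D hdisj)
  choose m₁ hm₁ using fun i : ι => exists_kill_bound π I hI hG (hV i) d
  choose m₂ hm₂ using fun p : Σ n : Fin d, (Fin (n.val + 1) → ι) =>
    exists_kill_bound π I hI hG (isAffineOpen_tup V hV p.2) d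
  obtain ⟨M₁, hM₁⟩ := Finite.exists_le m₁
  obtain ⟨M₂, hM₂⟩ := Finite.exists_le m₂
  let m := M₁ + M₂
  let K := (I.comap π) ^ m
  let θ := Dual3.idealMulι K G
  haveI := hG.1
  haveI hq : ((Dual3.idealMul K).obj G).IsQuasicoherent := CohTwo.isQCoh_idealMul K G
  haveI : QuasiCompact π := inferInstance
  haveI hpq := QCohMod.isQCoh_pushforward ((Dual3.idealMul K).obj G) π
  haveI hpG := QCohMod.isQCoh_pushforward G π
  haveI := CohTwo.isQCoh_idealMul J ((Scheme.Modules.pushforward π).obj G)
  refine ⟨_, θ, ⟨CohTwo.isCoh_idealMul K G hG, inferInstance, ?_, ?_, fun x hx hxJ =>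
    CohTwo.bijective_stalk_idealMulι K G (comap_pow_support π I m (hIsupp hx hxJ)), ?_⟩⟩
  · intro n q hnq e
    refine csMap_kills (preFam π V) θ n (q + 1) (fun x => ?_) (fun x => ?_) e
    · rw [← preimage_tup π V x]
      haveI : IsAffineHom (tupOpen V x).ι := CohFin.isAffineHom_ι _ (isAffineOpen_tup V hV x)
      exact MorphismProperty.of_isPullback (P := @IsAffineHom)
        (isPullback_morphismRestrict π (tupOpen V x)) inferInstance
    · have key : ∀ T : X'.Opens, T = π ⁻¹ᵁ tupOpen V x →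
          ∀ y : Coh.HH T.toScheme (((Dual3.idealMul K).obj G).restrict T.ι) (q + 1),
            Sheaf.H.map ((toAbF T.toScheme).map ((Scheme.Modules.restrictFunctor T.ι).map θ)) (q + 1) y = 0 := by
        rintro T rfl
        exact (hm₂ ⟨⟨n, by omega⟩, x⟩ m ((hM₂ _).trans (Nat.le_add_left _ _))).1 q (by omega)
      exact key _ (preimage_tup π V x).symm
  · refine CohTwo.exists_lift_of_local _ _ fun A a y hy => ?_
    obtain ⟨i, hi⟩ := Opens.mem_iSup.1 (hcov.ge (Opens.mem_top y))
    obtain ⟨g, hyg, hgA⟩ := QCohMod.exists_basicOpen_mem (hV i) hi hy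
    obtain ⟨r, t, ht⟩ := QCohMod.exists_pow_smul_eq_res ((Scheme.Modules.pushforward π).obj
      ((Dual3.idealMul K).obj G)) (hV i) g (QCohMod.res _ hgA a)
    have hmem := (hm₁ i m ((hM₁ i).trans (Nat.le_add_right _ _))).2 t
    have hle : I.ideal ⟨V i, hV i⟩ ≤ J.ideal ⟨V i, hV i⟩ := by
      rw [Scheme.IdealSheafData.ideal_mul, Pi.mul_apply]
      exact Ideal.mul_le_left
    obtain ⟨b, hb⟩ := (CohTwo.mem_range_idealMulι_iff J _ (hV i) _).2 (Submodule.smul_mono_left hle hmem)
    have hu : IsUnit (QCohMod.resFun X (X.basicOpen_le g) g ^ r) :=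
      (X.toRingedSpace.isUnit_res_basicOpen g).pow r
    refine ⟨X.basicOpen g, hgA, (hu.unit⁻¹ : Γ(X, X.basicOpen g)ˣ).val •
      QCohMod.res _ (X.basicOpen_le g) b, hyg, ?_⟩
    rw [Scheme.Modules.Hom.app_smul]
    refine hu.smul_left_cancel.1 ?_
    rw [← mul_smul, IsUnit.mul_val_inv, one_smul]
    refine (QCohMod.res_app (Dual3.idealMulι J _) (X.basicOpen_le g) b).symm.trans ?_
    refine (congrArg (QCohMod.res _ (X.basicOpen_le g)) hb).trans ?_
    refine (QCohMod.res_app ((Scheme.Modules.pushforward π).map θ) (X.basicOpen_le g) t).trans ?_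
    rw [ht, Scheme.Modules.Hom.app_smul]
    exact congrArg (_ • ·) (QCohMod.res_app ((Scheme.Modules.pushforward π).map θ) hgA a).symm
  · intro y hy hyJ
    refine surjective_stalk_push π θ (W ⊓ ⟨(I.support : Set X)ᶜ, I.support.2.isOpen_compl⟩)
      ⟨hy, hIsupp hy hyJ⟩ fun D hD hle => ?_
    exact app_surjective_away π I m G hD (hW D hD (hle.trans inf_le_left))
      (Set.disjoint_left.2 fun z hz => (hle hz).2)

variable (hV : ∀ i, IsAffineOpen (V i)) (hcov : ⨆ i, V i = ⊤)
  (hW : ∀ D : X.Opens, IsAffineOpen D → D ≤ W → IsAffineOpen (π ⁻¹ᵁ D)) (d : ℕ)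
  {G₀ : X'.Modules} (hG₀ : Coh.IsCoh G₀)

/-- The modules of a killing chain. -/
noncomputable def chainC : ℕ → {G : X'.Modules // Coh.IsCoh G}
  | 0 => ⟨G₀, hG₀⟩
  | t + 1 => ⟨(exists_goodStep π V W hV hcov hW ⊤ d (chainC t).2).choose,
      (exists_goodStep π V W hV hcov hW ⊤ d (chainC t).2).choose_spec.choose_spec.coh⟩

/-- The modules of a killing chain. -/
noncomputable abbrev chainG (t : ℕ) : X'.Modules := (chainC π V W hV hcov hW d hG₀ t).1

/-- The maps of a killing chain. -/
noncomputable def chainθ (t : ℕ) :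
    chainG π V W hV hcov hW d hG₀ (t + 1) ⟶ chainG π V W hV hcov hW d hG₀ t :=
  (exists_goodStep π V W hV hcov hW ⊤ d (chainC π V W hV hcov hW d hG₀ t).2).choose_spec.choose

lemma chain_good (t : ℕ) : GoodStep π V W ⊤ d (chainG π V W hV hcov hW d hG₀ t)
    (chainG π V W hV hcov hW d hG₀ (t + 1)) (chainθ π V W hV hcov hW d hG₀ t) :=
  (exists_goodStep π V W hV hcov hW ⊤ d (chainC π V W hV hcov hW d hG₀ t).2).choose_spec.choose_spec

/-- The composite of the chain. -/
noncomputable abbrev chainTo (p : ℕ) : chainG π V W hV hcov hW d hG₀ p ⟶ G₀ :=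
  chainMap (chainG π V W hV hcov hW d hG₀) (chainθ π V W hV hcov hW d hG₀) p

lemma chain_kills : ChainKills (preFam π V) (chainG π V W hV hcov hW d hG₀)
    (chainθ π V W hV hcov hW d hG₀) d := fun t n q h e =>
  (chain_good π V W hV hcov hW d hG₀ t).kills n q h e

lemma chainTo_prop : ∀ p : ℕ, Mono (chainTo π V W hV hcov hW d hG₀ p) ∧
    (∀ x : X', π x ∈ W → Function.Bijective ((QCohMod.stalk x).map (chainTo π V W hV hcov hW d hG₀ p))) ∧
    (∀ y ∈ W, Function.Surjective
      ((QCohMod.stalk y).map ((Scheme.Modules.pushforward π).map (chainTo π V W hV hcov hW d hG₀ p))))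
  | 0 => by
    refine ⟨inferInstanceAs (Mono (𝟙 _)), fun x _ => ?_, fun y _ => ?_⟩
    · change Function.Bijective ((QCohMod.stalk x).map (𝟙 G₀))
      rw [CategoryTheory.Functor.map_id]
      exact Function.bijective_id
    · change Function.Surjective ((QCohMod.stalk y).map ((Scheme.Modules.pushforward π).map (𝟙 G₀)))
      rw [CategoryTheory.Functor.map_id, CategoryTheory.Functor.map_id]
      exact Function.surjective_id
  | p + 1 => by
    obtain ⟨h1, h2, h3⟩ := chainTo_prop p
    have g := chain_good π V W hV hcov hW d hG₀ p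
    have htop : ∀ y : X, y ∉ ((⊤ : X.IdealSheafData).support : Set X) := fun y => by
      rw [Scheme.IdealSheafData.support_top]; exact id
    refine ⟨?_, fun x hx => ?_, fun y hy => ?_⟩
    · haveI := g.mono
      exact mono_comp (chainθ π V W hV hcov hW d hG₀ p) (chainTo π V W hV hcov hW d hG₀ p)
    · change Function.Bijective ((QCohMod.stalk x).map
        (chainθ π V W hV hcov hW d hG₀ p ≫ chainTo π V W hV hcov hW d hG₀ p))
      rw [Functor.map_comp, ConcreteCategory.coe_comp]
      exact (h2 x hx).comp (g.bijective x hx (htop _))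
    · change Function.Surjective ((QCohMod.stalk y).map ((Scheme.Modules.pushforward π).map
        (chainθ π V W hV hcov hW d hG₀ p ≫ chainTo π V W hV hcov hW d hG₀ p)))
      rw [Functor.map_comp, Functor.map_comp, ConcreteCategory.coe_comp]
      exact (h3 y hy).comp (g.surjective y hy (htop _))

end Groth.Lichtenbaum
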