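import Groth.Agent.Chow.VeryAmplePn
import Groth.Agent.Chow.Segre
import Groth.Agent.Pi1Ample.FiniteAffine
import Groth.Agent.PropsBasic.AmpleUnivClosed
import Groth.Agent.PropsBasic.IntegralImage
import Groth.Agent.PnCoh.OverAffine
import Groth.Agent.Variety2.DimScheme
import Groth.Agent.Variety2.DimPoints

/-! Affine immersions into projective space, and finite morphisms to projective space. -/

set_option linter.style.haveILetI false
set_option backward.isDefEq.respectTransparency.types false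
universe u

open CategoryTheory CategoryTheory.Limits AlgebraicGeometry TopologicalSpace Opposite
open Groth.PicAux Groth.PropsBasic.Ample

namespace Groth.Lichtenbaum

variable {k : Type u} [Field k]

/-- Sections of an invertible module with affine loci covering the scheme give an affine morphism to
projective space. -/
theorem exists_affineHom_of_sections {X : Scheme.{u}} (q : X ⟶ Spec (CommRingCat.of k)) {m : ℕ}
    (L : X.Modules) (s : Fin (m + 1) → ProjUP.Γm L) (hcov : ⨆ i, Chow.ToPn.U L s i = ⊤)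
    (haff : ∀ i, IsAffineOpen (Chow.ToPn.U L s i)) :
    ∃ r : X ⟶ CohB1.ProjSpace m k, IsAffineHom r ∧ r ≫ CohB1.ProjSpace.toSpec m k = q := by
  obtain ⟨r, hr⟩ := Chow.ToPn.exists_r q L s hcov
  refine ⟨r, isAffineHom_of_forall_exists_isAffineOpen r fun z => ?_, Chow.ToPn.r_toSpec hr hcov⟩
  obtain ⟨i, hi⟩ : ∃ i : Fin (m + 1),
      z ∈ Proj.basicOpen (CohB1.polyGrading m k) (MvPolynomial.X i) := by
    have h := Proj.iSup_basicOpen_eq_top (CohB1.polyGrading m k)
      (fun i : Fin (m + 1) => (MvPolynomial.X i : MvPolynomial (Fin (m + 1)) k))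
      Chow.ToPn.irrelevant_le_span_X
    exact Opens.mem_iSup.1 (h.ge (Opens.mem_top z))
  refine ⟨_, hi, Proj.isAffineOpen_basicOpen _ _ (Chow.ToPn.X_mem i) one_pos, ?_⟩
  exact (Chow.ToPn.preimage_D hr hcov i).symm ▸ haff i

/-- A scheme with an immersion into projective space has an affine immersion into a projective
space. -/
theorem exists_affine_immersion {U : Scheme.{u}} [Nonempty U] (fU : U ⟶ Spec (CommRingCat.of k))
    [QuasiCompact fU] {N : ℕ} (j : U ⟶ CohB1.ProjSpaceOver N (Spec (CommRingCat.of k))) [IsImmersion j]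
    (hj : j ≫ CohB1.ProjSpaceOver.toBase N (Spec (CommRingCat.of k)) = fU) :
    ∃ (M : ℕ) (ι : U ⟶ CohB1.ProjSpace M k), IsImmersion ι ∧ IsAffineHom ι ∧
      ι ≫ CohB1.ProjSpace.toSpec M k = fU := by
  classical
  let S := Spec (CommRingCat.of k)
  let j' : U ⟶ Proj (CohB1.polyGrading N k) := j ≫ (PnCoh.overIso N k).inv
  let L : (Proj (CohB1.polyGrading N k)).Modules := Chow.ToPn.O1 N k
  have hL : CohB1.IsAmple L := Chow.isAmple_O1 N k
  haveI : IsImmersion j' := inferInstanceAs (IsImmersion (j ≫ (PnCoh.overIso N k).inv))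
  haveI : CompactSpace U := QuasiCompact.compactSpace_of_compactSpace fU
  let O : (Proj (CohB1.polyGrading N k)).Opens :=
    ⟨coborder (Set.range j'), j'.isLocallyClosed_range.isOpen_coborder⟩
  choose n t hxt htO htaff using fun x : U => exists_affine_gloc_finite hL {j' x} (Set.finite_singleton _) O
    (by rintro _ rfl; exact subset_coborder ⟨x, rfl⟩)
  obtain ⟨F, hF⟩ := isCompact_univ.elim_finite_subcover
    (fun x : U => ((j' ⁻¹ᵁ gloc (t x) : U.Opens) : Set U)) (fun x => (j' ⁻¹ᵁ gloc (t x)).2)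
    (fun x _ => Set.mem_iUnion.2 ⟨x, hxt x rfl⟩)
  obtain ⟨N0, hN0⟩ := exists_common_power_finset hL.1 F n t
  choose s hs using hN0
  have hne : F.card ≠ 0 := by
    intro h
    obtain ⟨x⟩ := (inferInstance : Nonempty U)
    have := hF (Set.mem_univ x)
    simp [Finset.card_eq_zero.1 h] at this
  obtain ⟨m, hm⟩ := Nat.exists_eq_succ_of_ne_zero hne
  let e : Fin (m + 1) ≃ F := (finCongr hm.symm).trans F.equivFin.symm
  let P := CohB1.tensorPow L (N0 + 1)
  have hP : PicF.IsInvertible P := isInvertible_tensorPow hL.1 _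
  let L' : U.Modules := (Scheme.Modules.pullback j').obj P
  let σ : Fin (m + 1) → ProjUP.Γm L' := fun i => pullSec j' P (s (e i).1 (e i).2)
  have hU : ∀ i, Chow.ToPn.U L' σ i = j' ⁻¹ᵁ gloc (t (e i).1) := fun i => by
    change gloc (pullSec j' P (s (e i).1 (e i).2)) = _
    rw [gloc_pullSec j' hP, hs]
  have hcov : ⨆ i, Chow.ToPn.U L' σ i = ⊤ := by
    refine eq_top_iff.2 fun x _ => ?_
    obtain ⟨y, hy, hxy⟩ := Set.mem_iUnion₂.1 (hF (Set.mem_univ x))
    refine Opens.mem_iSup.2 ⟨e.symm ⟨y, hy⟩, ?_⟩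
    rw [hU, e.apply_symm_apply]
    exact hxy
  have haff : ∀ i, IsAffineOpen (Chow.ToPn.U L' σ i) := fun i => by
    rw [hU]
    set G := gloc (t (e i).1)
    haveI : IsAffine G.toScheme := htaff (e i).1
    haveI : IsPreimmersion (j' ∣_ G) := IsZariskiLocalAtTarget.restrict (P := @IsPreimmersion) inferInstance G
    haveI : IsClosedImmersion (j' ∣_ G) := by
      refine IsClosedImmersion.of_isPreimmersion _ ?_
      have hr : Set.range (j' ∣_ G) = G.ι ⁻¹' Set.range j' := by
        ext ⟨y, hy⟩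
        constructor
        · rintro ⟨a, ha⟩
          exact ⟨(j' ⁻¹ᵁ G).ι a, ((morphismRestrict_base_coe j' G a).symm.trans (congrArg Subtype.val ha))⟩
        · rintro ⟨a, ha⟩
          refine ⟨⟨a, show j' a ∈ G from (show j' a = y from ha) ▸ hy⟩, Subtype.ext ?_⟩
          exact (morphismRestrict_base_coe j' G _).trans ha
      rw [hr]
      exact (isClosed_preimage_val_coborder (s := Set.range j')).preimage
        (f := fun y : G => (⟨y.1, htO (e i).1 y.2⟩ : coborder (Set.range j')))
        (Continuous.subtype_mk continuous_subtype_val _)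
    exact isAffine_of_isAffineHom (j' ∣_ G)
  obtain ⟨r, hraff, hr⟩ := exists_affineHom_of_sections fU L' σ hcov haff
  let r' := r ≫ (PnCoh.overIso m k).hom
  have hr' : r' ≫ CohB1.ProjSpaceOver.toBase m S = fU := by
    rw [Category.assoc, PnCoh.overIso_hom_toBase, hr]
  let h : U ⟶ pullback (CohB1.ProjSpaceOver.toBase N S) (CohB1.ProjSpaceOver.toBase m S) :=
    pullback.lift j r' (hj.trans hr'.symm)
  haveI hsep : ∀ n, IsSeparated (CohB1.ProjSpaceOver.toBase n S) := fun n =>
    inferInstanceAs (IsSeparated (pullback.snd (CohB1.ProjSpace.toSpec n (ULift.{u} ℤ)) _))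
  haveI : IsImmersion h := by
    have h1 : h ≫ pullback.fst _ _ = j := pullback.lift_fst _ _ _
    haveI : IsImmersion (h ≫ pullback.fst _ _) := h1 ▸ ‹IsImmersion j›
    exact IsImmersion.of_comp h (pullback.fst _ _)
  haveI : IsAffineHom h := by
    have h1 : h ≫ pullback.snd _ _ = r' := pullback.lift_snd _ _ _
    haveI : IsAffineHom (h ≫ pullback.snd _ _) := h1 ▸ (inferInstanceAs (IsAffineHom (r ≫ _)))
    exact IsAffineHom.of_comp h (pullback.snd _ _)
  obtain ⟨φ, hφ, hφb⟩ := Chow.exists_segre_over S N m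
  haveI := hφ
  refine ⟨_, h ≫ φ ≫ (PnCoh.overIso _ k).inv, inferInstance, inferInstance, ?_⟩
  rw [← PnCoh.overIso_hom_toBase, Category.assoc, Category.assoc, Iso.inv_hom_id_assoc, hφb,
    pullback.lift_fst_assoc, hj]

/-- Finitely many sections of powers of an ample module with affine loci cover a closed set of
dimension less than their number. -/
theorem exists_gloc_cover {X : Scheme.{u}} (f : X ⟶ Spec (CommRingCat.of k)) [IsProper f] {L : X.Modules}
    (hL : CohB1.IsAmple L) : ∀ (e : ℕ) (Y : Set X), IsClosed Y → (∀ y ∈ Y, Order.height y < e) →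
      ∃ (n : Fin e → ℕ) (t : ∀ i, Γ(CohB1.tensorPow L (n i + 1), ⊤)),
        (∀ i, IsAffineOpen (gloc (t i))) ∧ ∀ y ∈ Y, ∃ i, y ∈ gloc (t i) := by
  intro e
  induction e with
  | zero => exact fun Y _ h => ⟨Fin.elim0, fun i => i.elim0, fun i => i.elim0, fun y hy => absurd (h y hy) (by simp)⟩
  | succ e ih =>
    intro Y hY h
    haveI : CompactSpace X := hL.2.1
    haveI : AlgebraicGeometry.IsLocallyNoetherian X := LocallyOfFiniteType.isLocallyNoetherian f
    haveI : AlgebraicGeometry.IsNoetherian X := {}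
    obtain ⟨S, hSf, hSc, hSi, hYS⟩ := NoetherianSpace.exists_finite_set_isClosed_irreducible hY
    let Z : Set X := ⋃ s : S, {(hSi s.1 s.2).genericPoint}
    haveI : Finite S := hSf
    obtain ⟨n₀, t₀, hZt, -, ht₀⟩ := exists_affine_gloc_finite hL Z (Set.finite_iUnion fun _ => Set.finite_singleton _) ⊤
      (Set.subset_univ _)
    obtain ⟨n, t, haff, hcov⟩ := ih (Y ∩ (gloc t₀ : Set X)ᶜ) (hY.inter (gloc t₀).2.isClosed_compl) fun y ⟨hy, hyt⟩ => by
      obtain ⟨s, hs, hys⟩ := Set.mem_sUnion.1 (hYS ▸ hy : y ∈ ⋃₀ S)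
      set z := (hSi s hs).genericPoint
      have hgen : IsGenericPoint z s := by
        have := (hSi s hs).isGenericPoint_genericPoint_closure
        rwa [(hSc s hs).closure_eq] at this
      have hzY : z ∈ Y := hYS ▸ Set.mem_sUnion_of_mem hgen.mem hs
      have hzt : z ∈ gloc t₀ := hZt (Set.mem_iUnion.2 ⟨⟨s, hs⟩, rfl⟩)
      have hlt : y < z := Variety2.Dim.lt_iff.2 ⟨hgen.specializes hys, fun e' => hyt (e' ▸ hzt)⟩
      have h1 := Order.height_strictMono hlt (lt_top_iff_ne_top.2 (Variety2.Dim.height_ne_top f y))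
      have h2 := Order.le_of_lt_add_one (show Order.height z < (e : ℕ∞) + 1 by exact_mod_cast h z hzY)
      exact h1.trans_le h2
    let nn : Fin (e + 1) → ℕ := Fin.cases n₀ n
    refine ⟨nn, fun i => Fin.cases (motive := fun i => Γ(CohB1.tensorPow L (nn i + 1), ⊤)) t₀ t i,
      Fin.cases ht₀ haff, fun y hy => ?_⟩
    by_cases hyt : y ∈ gloc t₀
    · exact ⟨0, hyt⟩
    · obtain ⟨i, hi⟩ := hcov y ⟨hy, hyt⟩
      exact ⟨i.succ, hi⟩

/-- A closed subscheme of projective space of dimension at most `d` is finite over `P^d`. -/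
theorem exists_finite_to_projSpace {X : Scheme.{u}} {M : ℕ} (c : X ⟶ CohB1.ProjSpace M k)
    [IsClosedImmersion c] (d : ℕ) (hd : topologicalKrullDim X ≤ d) :
    ∃ φ : X ⟶ CohB1.ProjSpace d k, IsFinite φ ∧
      φ ≫ CohB1.ProjSpace.toSpec d k = c ≫ CohB1.ProjSpace.toSpec M k := by
  classical
  let f := c ≫ CohB1.ProjSpace.toSpec M k
  haveI : IsProper (CohB1.ProjSpace.toSpec M k) := inferInstance
  haveI : IsProper f := inferInstanceAs (IsProper (c ≫ _))
  let L : X.Modules := (Scheme.Modules.pullback c).obj (Chow.ToPn.O1 M k)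
  have hL : CohB1.IsAmple L := Chow.isAmple_pullback_of_isAffineHom c (Chow.isAmple_O1 M k)
  obtain ⟨n, t, haff, hcov⟩ := exists_gloc_cover f hL (d + 1) Set.univ isClosed_univ fun y _ => by
    have h1 := (le_iSup (fun x : X => ((Order.height x : ℕ∞) : WithBot ℕ∞)) y).trans
      ((Variety2.Dim.dim_eq_iSup_height X).ge.trans hd)
    have h2 : Order.height y ≤ (d : ℕ∞) := WithBot.coe_le_coe.1 h1
    exact h2.trans_lt (by exact_mod_cast Nat.lt_succ_self d)
  obtain ⟨N0, hN0⟩ := exists_common_power_finset hL.1 Finset.univ n t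
  choose s hs using fun i => hN0 i (Finset.mem_univ i)
  let P := CohB1.tensorPow L (N0 + 1)
  have hU : ∀ i, Chow.ToPn.U P s i = gloc (t i) := hs
  obtain ⟨φ, hφaff, hφ⟩ := exists_affineHom_of_sections f P s
    (eq_top_iff.2 fun x _ => by
      obtain ⟨i, hi⟩ := hcov x trivial
      exact Opens.mem_iSup.2 ⟨i, (hU i).symm ▸ hi⟩)
    (fun i => (hU i).symm ▸ haff i)
  haveI : IsProper (φ ≫ CohB1.ProjSpace.toSpec d k) := hφ ▸ ‹IsProper f›
  haveI : IsProper φ := IsProper.of_comp φ (CohB1.ProjSpace.toSpec d k)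
  exact ⟨φ, IsFinite.iff_isProper_and_isAffineHom.2 ⟨‹_›, hφaff⟩, hφ⟩

end Groth.Lichtenbaum
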