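import Groth.Agent.Chow.Lemma
import Groth.Agent.Variety2.DimScheme
import Groth.Agent.PropsBasic2.NoethScheme
import Mathlib.AlgebraicGeometry.Morphisms.Proper

/-! A quasi-projective model, by Chow's lemma, of an integral closed subscheme. -/

set_option linter.style.haveILetI false
universe u

open CategoryTheory CategoryTheory.Limits AlgebraicGeometry TopologicalSpace

namespace Groth.Lichtenbaum

variable {k : Type u} [Field k] {X : Scheme.{u}}

/-- A quasi-projective integral scheme mapping properly onto an integral closed subscheme, affinely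
over a neighbourhood of its generic point. -/
structure Model (f : X ⟶ Spec (CommRingCat.of k)) {Z : Scheme.{u}} (i : Z ⟶ X) [IsIntegral Z] (d : ℕ) where
  /-- The model. -/
  X' : Scheme.{u}
  /-- The map to the ambient scheme. -/
  π : X' ⟶ X
  /-- The open over which the map is affine. -/
  W : X.Opens
  proper : IsProper π
  integral : IsIntegral X'
  mem : i (genericPoint Z) ∈ W
  affine : ∀ D : X.Opens, IsAffineOpen D → D ≤ W → IsAffineOpen (π ⁻¹ᵁ D)
  range : Set.range π = Set.range i
  hits : π (genericPoint X') = i (genericPoint Z)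
  /-- The dimension of the ambient projective space. -/
  N : ℕ
  /-- The embedding. -/
  j : X' ⟶ CohB1.ProjSpaceOver N (Spec (CommRingCat.of k))
  immersion : IsImmersion j
  fac : j ≫ CohB1.ProjSpaceOver.toBase N (Spec (CommRingCat.of k)) = π ≫ f
  dim : topologicalKrullDim X' = d
  proper_iff : IsProper (π ≫ f) ↔ IsProper (i ≫ f)

set_option maxHeartbeats 800000 in
theorem exists_model (f : X ⟶ Spec (CommRingCat.of k)) [IsSeparated f] [LocallyOfFiniteType f]
    [QuasiCompact f] {Z : Scheme.{u}} (i : Z ⟶ X) [IsIntegral Z] [IsClosedImmersion i] (d : ℕ)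
    (hd : topologicalKrullDim Z = d) : Nonempty (Model f i d) := by
  let g := i ≫ f
  haveI : IsSeparated g := inferInstanceAs (IsSeparated (i ≫ f))
  haveI : LocallyOfFiniteType g := inferInstanceAs (LocallyOfFiniteType (i ≫ f))
  haveI : QuasiCompact g := inferInstanceAs (QuasiCompact (i ≫ f))
  haveI : CompactSpace Z := QuasiCompact.compactSpace_of_compactSpace g
  haveI : Z.IsSeparated := ⟨by
    rw [← terminal.comp_from g]
    infer_instance⟩
  haveI : IsLocallyNoetherian Z := LocallyOfFiniteType.isLocallyNoetherian g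
  haveI : IsNoetherian Z := {}
  obtain ⟨N, X', p, j, hj, hjb, hp, hsurj, ⟨O, hO, hO', hiso⟩, hred, hirr⟩ :=
    Chow.exists_chow g NoetherianSpace.finite_irreducibleComponents
  haveI := hp
  haveI := hred inferInstance
  haveI := hirr inferInstance
  haveI : IsIntegral X' := isIntegral_of_irreducibleSpace_of_isReduced X'
  have hgen : p (genericPoint X') = genericPoint Z := by
    have h1 := (genericPoint_spec X').image p.continuous
    rw [Set.image_univ, p.surjective.range_eq, closure_univ] at h1
    exact h1.eq (genericPoint_spec Z)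
  have hηO : genericPoint Z ∈ O :=
    ((genericPoint_spec Z).specializes (Set.mem_univ (hO.nonempty.some))).mem_open O.2 hO.nonempty.some_mem
  obtain ⟨W, hW, hWO⟩ := i.isClosedEmbedding.isInducing.isOpen_iff.1 O.2
  have hWO' : i ⁻¹ᵁ (⟨W, hW⟩ : X.Opens) = O := Opens.ext hWO
  refine ⟨⟨X', p ≫ i, ⟨W, hW⟩, inferInstance, inferInstance, ?_, ?_, ?_, ?_, N, j, hj, ?_, ?_, ?_⟩⟩
  · change genericPoint Z ∈ i ⁻¹' W
    rw [hWO]
    exact hηO
  · intro D hD hDW
    have h1 : IsAffineOpen (i ⁻¹ᵁ D) := hD.preimage i
    have h2 : i ⁻¹ᵁ D ≤ O := hWO' ▸ i.preimage_mono hDW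
    haveI := hiso
    have h3 : IsAffineOpen (O.ι ⁻¹ᵁ (i ⁻¹ᵁ D)) := by
      refine O.ι.isAffineOpen_iff_of_isOpenImmersion.1 ?_
      rw [Scheme.Hom.image_preimage_eq_opensRange_inf, Scheme.Opens.opensRange_ι, inf_eq_right.2 h2]
      exact h1
    have h4 := ((h3.preimage_of_isIso (p ∣_ O)).image_of_isOpenImmersion (p ⁻¹ᵁ O).ι)
    rw [image_morphismRestrict_preimage, Scheme.Hom.image_preimage_eq_opensRange_inf,
      Scheme.Opens.opensRange_ι, inf_eq_right.2 h2] at h4
    exact h4
  · rw [show ⇑(p ≫ i) = ⇑i ∘ ⇑p from rfl, Set.range_comp, p.surjective.range_eq, Set.image_univ]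
  · exact congrArg i hgen
  · rw [Category.assoc]; exact hjb
  · rw [← hd]
    haveI := hiso
    haveI : IsSeparated (p ≫ g) := inferInstance
    rw [← Variety2.Dim.dim_opens g O ⟨_, hηO⟩, ← Variety2.Dim.dim_opens (p ≫ g) (p ⁻¹ᵁ O) hO'.nonempty]
    exact (asIso (p ∣_ O)).hom.homeomorph.isHomeomorph.topologicalKrullDim_eq _
  · refine ⟨fun h => ?_, fun h => ?_⟩
    · rw [Category.assoc] at h
      haveI := h
      haveI : UniversallyClosed (p ≫ g) := inferInstanceAs (UniversallyClosed (p ≫ i ≫ f))
      haveI : UniversallyClosed g := UniversallyClosed.of_comp_surjective p g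
      exact ⟨⟩
    · haveI : IsProper g := h
      rw [Category.assoc]
      exact inferInstanceAs (IsProper (p ≫ g))

end Groth.Lichtenbaum
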