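import Groth.Agent.Inter.Vanishing
import Groth.Agent.CohTwo.Devissage
import Groth.Agent.Variety2.DimScheme
import Groth.Agent.CohBase.Modules

/-! Vanishing for modules with small support; consequences for maps. -/

universe u

open CategoryTheory CategoryTheory.Limits AlgebraicGeometry TopologicalSpace Opposite
open Groth.CohBase

namespace Groth.Lichtenbaum

variable {X : Scheme.{u}}

open Inter.Vanishing in
/-- A module supported at points of height `< d` has no cohomology in degrees `≥ d`. -/
theorem subsingleton_HH_of_height_lt [IsNoetherian X] (M : X.Modules) (d : ℕ)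
    (h : ∀ x ∈ CohB1.support M, Order.height x < (d : ℕ∞)) (n : ℕ) (hn : d ≤ n) :
    Subsingleton (Coh.HH X M n) := by
  refine subsingleton_H_of_supportLT d (Coh.toAb M) (fun U s T hbad => ?_) n hn
  letI := specializationOrder (X := X)
  let e : IrreducibleCloseds X ≃o X := irreducibleSetEquivPoints
  obtain ⟨x, hxT, hxU⟩ := hbad.1
  have hη : e T ∈ (T : Set X) := T.isIrreducible.isGenericPoint_genericPoint T.isClosed |>.mem
  have hηU : e T ∈ U := (T.isIrreducible.isGenericPoint_genericPoint T.isClosed).specializes hxT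
    |>.mem_open U.isOpen hxU
  rw [← Order.height_orderIso e T]
  refine h _ fun hsub => ?_
  obtain ⟨hU, hne⟩ := hbad.2 ⟨hη, hηU⟩
  have h0 : M.presheaf.germ U (e T) hU s = M.presheaf.germ U (e T) hU 0 :=
    @Subsingleton.elim _ hsub _ _
  obtain ⟨V, hxV, i₁, i₂, hV⟩ := M.presheaf.germ_eq (e T) hU hU s 0 h0
  refine hne V (leOfHom i₁) hxV ?_
  refine hV.trans ?_
  exact map_zero _

/-- A monomorphism with cokernel without top cohomology is surjective on top cohomology. -/
theorem surjective_Hmap_of_mono {A B : X.Modules} (φ : A ⟶ B) [Mono φ] (n : ℕ)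
    (h : Subsingleton (Coh.HH X (cokernel φ) n)) : Function.Surjective (Sheaf.H.map ((toAbF X).map φ) n) := by
  intro y
  have hs := (CohTwo.cokerSeq_shortExact φ).map_of_exact (toAbF X)
  exact (EulerDeg.hMap_exact_mid (f := (toAbF X).map φ) (g := (toAbF X).map (cokernel.π φ))
    (w₀ := by rw [← Functor.map_comp, cokernel.condition, Functor.map_zero]) hs n y).1
    (@Subsingleton.elim _ h _ _)

/-- Vanishing passes to extensions. -/
theorem subsingleton_HH_ext {S : ShortComplex X.Modules} (hS : S.ShortExact) (n : ℕ)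
    (h1 : Subsingleton (Coh.HH X S.X₁ n)) (h3 : Subsingleton (Coh.HH X S.X₃ n)) :
    Subsingleton (Coh.HH X S.X₂ n) :=
  @EulerDeg.subsingleton_H_mid _ _ _ _ ((toAbF X).map S.f) ((toAbF X).map S.g)
    (by rw [← Functor.map_comp, S.zero, Functor.map_zero]) (hS.map_of_exact (toAbF X)) n h1 h3

/-- Vanishing passes to retracts. -/
theorem subsingleton_HH_retract {A B : X.Modules} (i : A ⟶ B) (r : B ⟶ A) (hir : i ≫ r = 𝟙 A) (n : ℕ)
    (h : Subsingleton (Coh.HH X B n)) : Subsingleton (Coh.HH X A n) := by
  haveI : Subsingleton (Sheaf.H ((toAbF X).obj B) n) := h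
  refine Function.Injective.subsingleton (f := Sheaf.H.map ((toAbF X).map i) n) fun a b hab => ?_
  have := congrArg (Sheaf.H.map ((toAbF X).map r) n) hab
  rw [← Sheaf.H.map_comp_apply, ← Sheaf.H.map_comp_apply, ← Functor.map_comp, hir, CategoryTheory.Functor.map_id,
    Sheaf.H.map_id_apply, Sheaf.H.map_id_apply] at this
  exact this

theorem subsingleton_HH_of_isZero {A : X.Modules} (h : IsZero A) (n : ℕ) : Subsingleton (Coh.HH X A n) :=
  Sheaf.subsingleton_H_of_isZero ((toAbF X).map_isZero h) n

/-- The points of a closed subset of the closure of `ξ` missing `ξ` have height below that of `ξ`. -/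
theorem height_lt_of_mem {k : Type u} [Field k] (f : X ⟶ Spec (CommRingCat.of k)) [LocallyOfFiniteType f]
    {Y : Set X} (hY : IsClosed Y) {ξ : X} (hξ : ξ ∉ Y) {x : X} (hxY : x ∈ Y) (hx : ξ ⤳ x) :
    Order.height x < Order.height ξ := by
  obtain ⟨n, hn⟩ := Variety2.Dim.exists_height_eq f x
  refine Order.height_strictMono ?_ (hn ▸ ENat.natCast_lt_top n)
  exact lt_of_le_not_ge hx fun h => hξ (Specializes.mem_closed (show x ⤳ ξ from h) hY hxY)

end Groth.Lichtenbaum
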