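import Groth.Agent.Lichtenbaum.QuasiProj
import Groth.Agent.Lichtenbaum.SmallSupp
import Groth.Agent.Lichtenbaum.Step
import Groth.Agent.Lichtenbaum.Setup
import Groth.Agent.CohTwo.SupportLocal

/-! Vanishing of the top cohomology when no top-dimensional integral closed subscheme is proper. -/

set_option linter.style.haveILetI false
universe u

open CategoryTheory CategoryTheory.Limits AlgebraicGeometry TopologicalSpace Opposite
open Groth.CohBase

namespace Groth.Lichtenbaum

variable {k : Type u} [Field k] {X' X : Scheme.{u}}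

lemma isNoetherian_of_field (f : X ⟶ Spec (CommRingCat.of k)) [LocallyOfFiniteType f] [QuasiCompact f] :
    AlgebraicGeometry.IsNoetherian X :=
  haveI := LocallyOfFiniteType.isLocallyNoetherian f
  haveI := QuasiCompact.compactSpace_of_compactSpace f
  {}

lemma isSeparated_of_field (f : X ⟶ Spec (CommRingCat.of k)) [IsSeparated f] : X.IsSeparated := ⟨by
  rw [← terminal.comp_from f]
  infer_instance⟩

/-- A monomorphism of coherent modules supported in the closure of `ξ` and surjective at `ξ` is
surjective on top cohomology. -/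
theorem surjective_Hmap_top (f : X ⟶ Spec (CommRingCat.of k)) [LocallyOfFiniteType f]
    [AlgebraicGeometry.IsNoetherian X] {A B : X.Modules} (hA : Coh.IsCoh A) (hB : Coh.IsCoh B) (φ : A ⟶ B)
    [Mono φ] {ξ : X} (hsupp : CohB1.support B ⊆ closure {ξ})
    (hφ : Function.Surjective ((QCohMod.stalk ξ).map φ)) {d : ℕ} (hd : Order.height ξ ≤ (d : ℕ∞)) :
    Function.Surjective (Sheaf.H.map ((toAbF X).map φ) d) := by
  haveI := hA.1
  have hC := QCohMod.isCoh_cokernel φ hB
  refine surjective_Hmap_of_mono φ d (subsingleton_HH_of_height_lt _ d (fun x hx => ?_) d le_rfl)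
  refine lt_of_lt_of_le ?_ hd
  exact height_lt_of_mem f (CohTwo.isClosed_support _ hC) (CohTwo.notMem_support_cokernel φ ξ hφ) hx
    (specializes_iff_mem_closure.2 (hsupp (CohTwo.support_subset_of_epi (cokernel.π φ) hx)))

/-- Direct images from a reduced scheme mapping into a closed subset are killed by its ideal. -/
theorem killed_push (π : X' ⟶ X) [QuasiCompact π] [QuasiSeparated π] [IsReduced X'] (Y : Closeds X)
    (hY : Set.range π ⊆ Y) (M : X'.Modules) [M.IsQuasicoherent] :
    CohTwo.Killed (Scheme.IdealSheafData.vanishingIdeal Y) ((Scheme.Modules.pushforward π).obj M) := by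
  haveI := QCohMod.isQCoh_pushforward M π
  refine CohTwo.killed_of_smul_eq_zero fun V hV a ha m => ?_
  have h0 : π.app V a = 0 := by
    refine (basicOpen_eq_bot_iff _).1 ?_
    rw [← Scheme.preimage_basicOpen]
    refine Opens.ext (Set.eq_empty_of_forall_notMem fun x hx => ?_)
    have hle := CohTwo.basicOpen_le_compl_support (Scheme.IdealSheafData.vanishingIdeal Y)
      (U := ⟨_, (Scheme.IdealSheafData.vanishingIdeal Y).support.2.isOpen_compl⟩) rfl hV ha hx
    refine hle ?_
    change π x ∈ ((Scheme.IdealSheafData.vanishingIdeal Y).support : Set X)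
    rw [Scheme.IdealSheafData.coe_support_vanishingIdeal]
    exact hY ⟨x, rfl⟩
  change π.app V a • (show Γ(M, π ⁻¹ᵁ V) from m) = 0
  rw [h0, zero_smul]

/-- The direct image of the structure module is nonzero at points of the image. -/
theorem nontrivial_stalk_push (π : X' ⟶ X) (x' : X') :
    Nontrivial ↑(((Scheme.Modules.pushforward π).obj (Coh.structureModule X')).presheaf.stalk (π x')) := by
  let M := (Scheme.Modules.pushforward π).obj (Coh.structureModule X')
  let one : Γ(M, ⊤) := (show Γ(Coh.structureModule X', π ⁻¹ᵁ ⊤) from (1 : Γ(X', π ⁻¹ᵁ ⊤)))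
  refine nontrivial_of_ne (M.presheaf.germ ⊤ (π x') trivial one) 0 fun h => ?_
  obtain ⟨V, hxV, i₁, i₂, hV⟩ := M.presheaf.germ_eq (π x') (show π x' ∈ (⊤ : X.Opens) from trivial)
    (show π x' ∈ (⊤ : X.Opens) from trivial) one 0
    (h.trans (map_zero _).symm)
  have h1 : (1 : Γ(X', π ⁻¹ᵁ V)) = 0 := by
    have h2 := hV.trans (map_zero _)
    refine Eq.trans ?_ h2
    exact (map_one (X'.presheaf.map (homOfLE (π.preimage_mono (leOfHom i₁))).op).hom).symm
  haveI : Nontrivial Γ(X', π ⁻¹ᵁ V) := by
    haveI : Nonempty (π ⁻¹ᵁ V).toScheme := ⟨⟨x', hxV⟩⟩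
    exact X'.component_nontrivial _
  exact one_ne_zero h1

set_option maxHeartbeats 1200000 in
/-- The vanishing theorem. -/
theorem subsingleton_HH_top (f : X ⟶ Spec (CommRingCat.of k)) [IsSeparated f] [LocallyOfFiniteType f]
    [QuasiCompact f] (d : ℕ) (hdim : topologicalKrullDim X ≤ d)
    (h : ∀ (Z : Scheme.{u}) (i : Z ⟶ X) [IsClosedImmersion i] [IsIntegral Z],
      topologicalKrullDim Z = d → ¬ IsProper (i ≫ f))
    (F : X.Modules) (hF : Coh.IsCoh F) : Subsingleton (Coh.HH X F d) := by
  classical
  haveI := isNoetherian_of_field f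
  haveI := isSeparated_of_field f
  have hht : ∀ x : X, Order.height x ≤ (d : ℕ∞) := fun x => by
    have := (le_iSup (fun x : X => ((Order.height x : ℕ∞) : WithBot ℕ∞)) x).trans
      ((Variety2.Dim.dim_eq_iSup_height X).symm.le.trans hdim)
    exact_mod_cast this
  refine CohTwo.coh_induction (fun M => Subsingleton (Coh.HH X M d)) ?_
    (fun M hM => subsingleton_HH_of_isZero hM d) (fun S hS _ _ _ h1 h3 => subsingleton_HH_ext hS d h1 h3)
    Set.univ ?_ isClosed_univ F hF (Set.subset_univ _)
  · rintro M N ⟨e⟩ hM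
    exact subsingleton_HH_retract e.inv e.hom e.inv_hom_id d hM
  intro Y ξ hY _ F hF hFk hsmall
  haveI := hF.1
  have hFY : CohB1.support F ⊆ (Y : Set X) := by
    refine hFk.support_subset.trans ?_
    rw [Scheme.IdealSheafData.coe_support_vanishingIdeal]
  rcases lt_or_eq_of_le (hht ξ) with hlt | heq
  · refine subsingleton_HH_of_height_lt F d (fun x hx => lt_of_le_of_lt (Order.height_mono ?_) hlt) d le_rfl
    exact specializes_iff_mem_closure.2 (hY ▸ hFY hx)
  let i := (Scheme.IdealSheafData.vanishingIdeal Y).subschemeι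
  haveI := CohTwo.isIntegral_closure_subscheme hY
  have hri : Set.range i = closure {ξ} :=
    (Groth.PropsBasic2.range_vanishingIdeal_subschemeι Y).trans hY
  have hiη := CohTwo.apply_genericPoint_eq i hri
  haveI : LocallyOfFiniteType (i ≫ f) := inferInstance
  have hdZ : topologicalKrullDim (Scheme.IdealSheafData.vanishingIdeal Y).subscheme = d := by
    rw [Variety2.Dim.dim_eq_height_genericPoint, ← Variety2.Dim.height_eq_of_isPreimmersion (i ≫ f) f i rfl,
      hiη, heq]
    rfl
  obtain ⟨M⟩ := exists_model f i d hdZ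
  let π := M.π
  haveI := M.proper
  haveI := M.integral
  haveI := M.immersion
  have hnp : ¬ IsProper (π ≫ f) := fun hp => h _ i hdZ (M.proper_iff.1 hp)
  haveI : IsSeparated (π ≫ f) := inferInstance
  haveI : LocallyOfFiniteType (π ≫ f) := inferInstance
  haveI : QuasiCompact (π ≫ f) := inferInstance
  haveI := LocallyOfFiniteType.isLocallyNoetherian (π ≫ f)
  have hξW : ξ ∈ M.W := hiη ▸ M.mem
  have hrange : Set.range π ⊆ (Y : Set X) := by rw [M.range, hri, hY]
  obtain ⟨s, hs⟩ := Groth.PropsBasic2.exists_finite_affine_cover X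
  let V : s → X.Opens := fun U => U.1.1
  have hVa : ∀ U, IsAffineOpen (V U) := fun U => U.1.2
  have hcov : ⨆ U, V U = ⊤ := hs
  have hpush : ∀ H : M.X'.Modules, Coh.IsCoh H →
      Subsingleton (Coh.HH X ((Scheme.Modules.pushforward π).obj H) d) := by
    intro H hH
    haveI := hH.1
    let G := chainG π V M.W hVa hcov M.affine d hH
    let θ := chainθ π V M.W hVa hcov M.affine d hH
    obtain ⟨hmono, -, hsur⟩ := chainTo_prop π V M.W hVa hcov M.affine d hH d
    have hGd : Coh.IsCoh (G d) := (chainC π V M.W hVa hcov M.affine d hH d).2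
    haveI := hGd.1
    have h0 : Subsingleton (Coh.HH M.X' (G d) d) :=
      subsingleton_HH_of_quasiProjective (π ≫ f) M.j M.fac d M.dim.le hnp (G d)
    haveI : Mono (chainMap G θ d) := hmono
    let φ : (Scheme.Modules.pushforward π).obj (G d) ⟶ (Scheme.Modules.pushforward π).obj H :=
      (Scheme.Modules.pushforward π).map (chainMap G θ d)
    haveI : Mono φ := (Scheme.Modules.pushforward π).map_mono _
    haveI := QCohMod.isQCoh_pushforward H π
    refine subsingleton_of_forall_eq 0 fun y => ?_
    have hA : Coh.IsCoh ((Scheme.Modules.pushforward π).obj (G d)) := Inter.isCoh_push_proper π hGd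
    have hB : Coh.IsCoh ((Scheme.Modules.pushforward π).obj H) := Inter.isCoh_push_proper π hH
    obtain ⟨e, rfl⟩ := surjective_Hmap_top f hA hB φ (hY ▸ (killed_push π Y hrange H).support_subset.trans
        (Scheme.IdealSheafData.coe_support_vanishingIdeal Y).le) (hsur ξ hξW) heq.le y
    exact map_eq_zero_of_chain π V hcov G θ hVa d (chain_kills π V M.W hVa hcov M.affine d hH) h0 e
  let O := Coh.structureModule M.X'
  have hO : Coh.IsCoh O := QCohMod.isCoh_unit
  haveI := hO.1
  have hGc : Coh.IsCoh ((Scheme.Modules.pushforward π).obj O) := Inter.isCoh_push_proper π hO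
  haveI := hGc.1
  haveI : Nontrivial ↑(((Scheme.Modules.pushforward π).obj O).presheaf.stalk ξ) := by
    have := nontrivial_stalk_push π (genericPoint M.X')
    rwa [show π (genericPoint M.X') = ξ from M.hits.trans hiη] at this
  refine CohTwo.step_ext (fun N => Subsingleton (Coh.HH X N d))
    (fun N hN => subsingleton_HH_of_isZero hN d) (fun S hS _ _ _ h1 h3 => subsingleton_HH_ext hS d h1 h3)
    (fun N r _ hr hN => subsingleton_HH_retract (Sigma.ι (fun _ : Fin r => N) ⟨0, hr⟩)
      (Sigma.desc fun _ => 𝟙 N) (Sigma.ι_desc _ _) d hN)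
    hsmall hGc (CohTwo.Killed.stalk_maximalIdeal hY (killed_push π Y hrange O)) ?_ hF hFY
    (CohTwo.Killed.stalk_maximalIdeal hY hFk)
  intro J hξJ
  obtain ⟨G', θ, hθ⟩ := exists_goodStep π V M.W hVa hcov M.affine J d hO
  obtain ⟨a, ha⟩ := hθ.factor
  haveI := hθ.mono
  haveI := hθ.coh.1
  haveI : Mono a := mono_of_mono_fac ha
  refine ⟨_, a, inferInstance, QCohMod.isQCoh_pushforward G' π, ?_, hpush G' hθ.coh⟩
  rw [ha]
  exact ⟨(QCohMod.mono_iff_stalk _).1 inferInstance ξ, hθ.surjective ξ hξW hξJ⟩

end Groth.Lichtenbaum
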