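import Groth.Agent.Lichtenbaum.TopVanish
import Groth.Agent.GrpschAbsch.IntegralDim
import Groth.Agent.Variety2.ProjDim
import Groth.Agent.CohBase.FiniteBC.PushNat
import Groth.Agent.S9515

/-! A coherent module with nonzero top cohomology on a proper integral closed subscheme. -/

set_option linter.style.haveILetI false
universe u

open CategoryTheory CategoryTheory.Limits AlgebraicGeometry TopologicalSpace Opposite
open Groth.CohBase Groth.PicAux

namespace Groth.Lichtenbaum

variable {k : Type u} [Field k]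

/-- Invertible modules on an integral scheme have a nonzero germ at the generic point. -/
theorem exists_germ_ne_zero {X : Scheme.{u}} [IsIntegral X] {L : X.Modules} (hL : PicF.IsInvertible L) :
    ∃ v : ↑(L.presheaf.stalk (genericPoint X)), v ≠ 0 := by
  obtain ⟨U, e, hx, he⟩ := (isInvertible_iff_exists_gen L).1 hL (genericPoint X)
  refine ⟨QCohMod.germ L (genericPoint X) hx e, fun h => ?_⟩
  exact one_ne_zero (germ_smul_eq_zero he hx (r := (1 : X.presheaf.stalk (genericPoint X)))
    (by rw [one_smul]; exact h))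

/-- Over a field, a nonzero vector space maps nonzero to any nonzero vector. -/
theorem exists_linearMap_ne_zero {X : Scheme.{u}} [IsIntegral X] (M N : X.Modules)
    [Nontrivial ↑(M.presheaf.stalk (genericPoint X))] {v : ↑(N.presheaf.stalk (genericPoint X))} (hv : v ≠ 0) :
    ∃ ψ : ↑(M.presheaf.stalk (genericPoint X)) →ₗ[X.presheaf.stalk (genericPoint X)]
      ↑(N.presheaf.stalk (genericPoint X)), ψ ≠ 0 := by
  letI : Field (X.presheaf.stalk (genericPoint X)) := inferInstanceAs (Field X.functionField)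
  obtain ⟨m, hm⟩ := exists_ne (0 : ↑(M.presheaf.stalk (genericPoint X)))
  obtain ⟨l, hl⟩ := Module.Projective.exists_dual_ne_zero (X.presheaf.stalk (genericPoint X)) hm
  refine ⟨(LinearMap.toSpanSingleton _ _ v).comp l, fun h => ?_⟩
  have := congr($h m)
  change l m • v = 0 at this
  rcases smul_eq_zero.1 this with h' | h'
  · exact hl h'
  · exact hv h'

/-- The direct image of an ideal multiple maps into the multiple of the direct image, for affine
morphisms. -/
theorem exists_pushIdeal {X Y : Scheme.{u}} (φ : X ⟶ Y) [IsAffineHom φ] (I : Y.IdealSheafData) (n : ℕ)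
    (G : X.Modules) [G.IsQuasicoherent] :
    ∃ a : (Scheme.Modules.pushforward φ).obj ((Dual3.idealMul ((I.comap φ) ^ n)).obj G) ⟶
        (Dual3.idealMul (I ^ n)).obj ((Scheme.Modules.pushforward φ).obj G),
      a ≫ Dual3.idealMulι (I ^ n) _ = (Scheme.Modules.pushforward φ).map (Dual3.idealMulι _ G) := by
  haveI := QCohMod.isQCoh_pushforward G φ
  refine CohTwo.exists_lift_of_affine_range _ _ fun U hU s => (CohTwo.range_idealMulι_pow I n _ hU _).2 ?_
  have hW : IsAffineOpen (φ ⁻¹ᵁ U) := hU.preimage φ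
  let S : Submodule Γ(Y, U) Γ((Scheme.Modules.pushforward φ).obj G, U) :=
    I.ideal ⟨U, hU⟩ ^ n • ⊤
  let T : Ideal Γ(X, φ ⁻¹ᵁ U) :=
    { carrier := {c | ∀ y : Γ(G, φ ⁻¹ᵁ U),
        (show Γ((Scheme.Modules.pushforward φ).obj G, U) from c • y) ∈ S}
      add_mem' := fun {a b} ha hb y => by
        rw [add_smul]
        exact S.add_mem (ha y) (hb y)
      zero_mem' := fun y => by
        rw [zero_smul]
        exact S.zero_mem
      smul_mem' := fun c a ha y => by
        rw [smul_eq_mul, mul_comm, mul_smul]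
        exact ha (c • y) }
  have hT : (I.ideal ⟨U, hU⟩ ^ n).map (φ.appLE U (φ ⁻¹ᵁ U) le_rfl).hom ≤ T := by
    refine Ideal.map_le_iff_le_comap.2 fun r hr y => ?_
    have := Submodule.smul_mem_smul (N := (⊤ : Submodule Γ(Y, U) Γ((Scheme.Modules.pushforward φ).obj G, U)))
      hr (n := (show Γ((Scheme.Modules.pushforward φ).obj G, U) from y)) trivial
    change (show Γ((Scheme.Modules.pushforward φ).obj G, U) from
      φ.appLE U (φ ⁻¹ᵁ U) le_rfl r • y) ∈ S
    rw [← Scheme.Hom.app_eq_appLE]
    exact this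
  have hs := (CohTwo.range_idealMulι_pow (I.comap φ) n G hW _).1 ⟨s, rfl⟩
  rw [BlowUpBasics.ideal_comap φ I ⟨U, hU⟩ ⟨_, hW⟩ le_rfl, ← Ideal.map_pow] at hs
  change ((Dual3.idealMulι ((I.comap φ) ^ n) G).app (φ ⁻¹ᵁ U) s :
    Γ((Scheme.Modules.pushforward φ).obj G, U)) ∈ S
  exact Submodule.smul_induction_on hs (fun c hc y _ => hT hc y) (fun a b ha hb => S.add_mem ha hb)

set_option maxHeartbeats 1600000 in
/-- A projective integral scheme of dimension `d` has a coherent module with nonzero `H^d`. -/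
theorem exists_coh_nontrivial {X' : Scheme.{u}} [IsIntegral X'] {M : ℕ}
    (c : X' ⟶ CohB1.ProjSpace M k) [IsClosedImmersion c] (d : ℕ) (hd : topologicalKrullDim X' = d) :
    ∃ G : X'.Modules, Coh.IsCoh G ∧ Nontrivial (Coh.HH X' G d) := by
  obtain ⟨φ, hφ, hφf⟩ := exists_finite_to_projSpace c d hd.le
  haveI := hφ
  haveI := PnCoh.isLocallyNoetherian_projSpace d k
  haveI : CompactSpace (CohB1.ProjSpace d k) :=
    QuasiCompact.compactSpace_of_compactSpace (CohB1.ProjSpace.toSpec d k)
  haveI : AlgebraicGeometry.IsNoetherian (CohB1.ProjSpace d k) := {}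
  haveI : IsLocallyNoetherian X' := LocallyOfFiniteType.isLocallyNoetherian φ
  haveI : CompactSpace X' := QuasiCompact.compactSpace_of_compactSpace φ
  haveI : AlgebraicGeometry.IsNoetherian X' := {}
  let P := CohB1.ProjSpace d k
  let η := genericPoint P
  have hgen : φ (genericPoint X') = η := by
    by_contra hne
    have h1 : Order.height (φ (genericPoint X')) = (d : ℕ∞) := by
      rw [GrpschAbsch.height_eq_of_isIntegralHom φ]
      have := (Variety2.Dim.dim_eq_height_genericPoint (X := X')).symm.trans hd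
      exact_mod_cast this
    have h2 : Order.height η = (d : ℕ∞) := by
      have := (Variety2.Dim.dim_eq_height_genericPoint (X := P)).symm.trans Variety2.PSpace.dim_projSpace
      exact_mod_cast this
    have hlt : φ (genericPoint X') < η := lt_of_le_not_ge (genericPoint_specializes _) fun h' =>
      hne ((show φ (genericPoint X') ⤳ η from h').antisymm (genericPoint_specializes _)).eq
    have := Order.height_strictMono hlt (h1 ▸ ENat.natCast_lt_top d)
    rw [h1, h2] at this
    exact lt_irrefl _ this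
  let O := Coh.structureModule X'
  have hO : Coh.IsCoh O := QCohMod.isCoh_unit
  haveI := hO.1
  let Mp := (Scheme.Modules.pushforward φ).obj O
  have hMp : Coh.IsCoh Mp := Inter.isCoh_push_proper φ hO
  haveI := hMp.1
  haveI : Nontrivial ↑(Mp.presheaf.stalk η) := hgen ▸ nontrivial_stalk_push φ (genericPoint X')
  let ω := Twist.twistProjSpace d k (-((d : ℤ) + 1))
  have hω : PicF.IsInvertible ω := PnCoh.isInvertible_twist d k _
  obtain ⟨v, hv⟩ := exists_germ_ne_zero hω
  obtain ⟨σ, hσ⟩ := exists_linearMap_ne_zero Mp ω hv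
  obtain ⟨U0, hηU, ψ0, hψ0⟩ := CohTwo.exists_hom_nhd Mp ω hMp η σ
  let I := CohTwo.complIdeal U0
  obtain ⟨n, ψ1, hψ1⟩ := Groth.Agent.S9515.result P ω Mp (PicAux.isQCoh_of_isInvertible hω) hMp I U0
    (CohTwo.coe_compl_support_complIdeal U0) ψ0
  obtain ⟨a, ha⟩ := exists_pushIdeal φ I n O
  haveI := CohTwo.isQCoh_idealMul ((I.comap φ) ^ n) O
  let G := (Dual3.idealMul ((I.comap φ) ^ n)).obj O
  have hG : Coh.IsCoh G := CohTwo.isCoh_idealMul _ O hO
  refine ⟨G, hG, ?_⟩
  have hpG : Coh.IsCoh ((Scheme.Modules.pushforward φ).obj G) := Inter.isCoh_push_proper φ hG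
  have hIη : η ∉ (I.support : Set P) := CohTwo.notMem_support_complIdeal U0 hηU
  have hne : a ≫ ψ1 ≠ 0 := by
    intro h0
    refine hσ (LinearMap.ext fun y => ?_)
    have hsurj : Function.Surjective ((QCohMod.stalk η).map
        ((Scheme.Modules.pushforward φ).map (Dual3.idealMulι ((I.comap φ) ^ n) O))) :=
      surjective_stalk_push φ _ ⟨(I.support : Set P)ᶜ, I.support.2.isOpen_compl⟩ hIη fun D hD hle =>
        app_surjective_away φ I n O hD (hD.preimage φ) (Set.disjoint_left.2 fun z hz => hle hz)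
    obtain ⟨x, hx⟩ := hsurj y
    rw [← ha, Functor.map_comp] at hx
    rw [LinearMap.zero_apply, ← hx]
    refine (CohTwo.stalk_map_of_restrict_eq (Dual3.idealMulι (I ^ n) Mp) ψ1 ψ0 hψ1 hηU σ hψ0
      ((QCohMod.stalk η).map a x)).symm.trans ?_
    change ((QCohMod.stalk η).map a ≫ (QCohMod.stalk η).map ψ1) x = 0
    rw [← Functor.map_comp, h0, Functor.map_zero]
    rfl
  obtain ⟨t, ht⟩ := Groth.Agent.S11314.result k d
  have hN : Nontrivial (Coh.HH P ((Scheme.Modules.pushforward φ).obj G) d) := by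
    by_contra hs
    rw [not_nontrivial_iff_subsingleton] at hs
    obtain ⟨γ, -, huniq⟩ := ht _ hpG 0
    refine hne ((huniq (a ≫ ψ1) fun x => ?_).trans (huniq 0 fun x => ?_).symm) <;>
      rw [@Subsingleton.elim _ hs x 0, map_zero, map_zero, map_zero]
  exact @Equiv.nontrivial _ _
    (CohBase.FiniteBC.pushHA φ (CohB1.ProjSpace.toSpec d k) (c ≫ CohB1.ProjSpace.toSpec M k) G d).symm.toEquiv hN

set_option maxHeartbeats 1600000 in
/-- A proper integral closed subscheme of dimension `d` gives a coherent module with nonzero `H^d`. -/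
theorem exists_coh_nontrivial_top {X : Scheme.{u}} (f : X ⟶ Spec (CommRingCat.of k)) [IsSeparated f]
    [LocallyOfFiniteType f] [QuasiCompact f] {Z : Scheme.{u}} (i : Z ⟶ X) [IsClosedImmersion i]
    [IsIntegral Z] (d : ℕ) (hd : topologicalKrullDim Z = d) (hp : IsProper (i ≫ f)) :
    ∃ F : X.Modules, Coh.IsCoh F ∧ ¬ Subsingleton (Coh.HH X F d) := by
  classical
  haveI := isNoetherian_of_field f
  haveI := isSeparated_of_field f
  obtain ⟨Md⟩ := exists_model f i d hd
  let π := Md.π
  haveI := Md.proper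
  haveI := Md.integral
  haveI := Md.immersion
  haveI : IsProper (π ≫ f) := Md.proper_iff.2 hp
  obtain ⟨M, c, hc, -, hcf⟩ := exists_affine_immersion (π ≫ f) Md.j Md.fac
  haveI := hc
  haveI : IsProper (c ≫ CohB1.ProjSpace.toSpec M k) := hcf ▸ inferInstanceAs (IsProper (π ≫ f))
  haveI : IsProper c := IsProper.of_comp c (CohB1.ProjSpace.toSpec M k)
  haveI : IsClosedImmersion c := IsClosedImmersion.iff_isPreimmersion.2
    ⟨inferInstance, c.isClosedMap.isClosed_range⟩
  obtain ⟨G, hG, hne⟩ := exists_coh_nontrivial c d Md.dim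
  haveI := isNoetherian_of_field (π ≫ f)
  refine ⟨(Scheme.Modules.pushforward π).obj G, Inter.isCoh_push_proper π hG, fun hsub => ?_⟩
  obtain ⟨s, hs⟩ := Groth.PropsBasic2.exists_finite_affine_cover X
  let V : s → X.Opens := fun U => U.1.1
  have hVa : ∀ U, IsAffineOpen (V U) := fun U => U.1.2
  have hcov : ⨆ U, V U = ⊤ := hs
  have hξW : π (genericPoint Md.X') ∈ Md.W := (show π (genericPoint Md.X') = _ from Md.hits) ▸ Md.mem
  obtain ⟨hmono, hbij, -⟩ := chainTo_prop π V Md.W hVa hcov Md.affine d hG d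
  have hGd : Coh.IsCoh (chainG π V Md.W hVa hcov Md.affine d hG d) :=
    (chainC π V Md.W hVa hcov Md.affine d hG d).2
  haveI : Mono (chainTo π V Md.W hVa hcov Md.affine d hG d) := hmono
  haveI : (chainG π V Md.W hVa hcov Md.affine d hG 0).IsQuasicoherent := hG.1
  have hht : Order.height (genericPoint Md.X') ≤ (d : ℕ∞) := by
    have := (Variety2.Dim.dim_eq_height_genericPoint (X := Md.X')).symm.trans Md.dim
    exact le_of_eq (by exact_mod_cast this)
  refine not_subsingleton (Coh.HH Md.X' G d) (subsingleton_of_forall_eq 0 fun y => ?_)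
  obtain ⟨e, rfl⟩ := surjective_Hmap_top (π ≫ f) hGd hG (chainTo π V Md.W hVa hcov Md.affine d hG d)
    (fun x _ => specializes_iff_mem_closure.1 (genericPoint_specializes x)) (hbij _ hξW).2 hht y
  exact map_eq_zero_of_chain' π V hcov (chainG π V Md.W hVa hcov Md.affine d hG)
    (chainθ π V Md.W hVa hcov Md.affine d hG) hVa d (chain_kills π V Md.W hVa hcov Md.affine d hG) hsub e

end Groth.Lichtenbaum
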