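import Mathlib

/-! Functionals on modules over an affine open of a boundary-avoiding chart vanish. -/

universe u

namespace Groth.Lichtenbaum

/-- If `A` is a finite domain over the Noetherian domain `R`, `I ≠ ⊤` generates the unit ideal in the
`A`-algebra `B`, then every `R`-linear functional on a `B`-module is zero. -/
theorem eq_zero_of_map_eq_top {R A B : Type*} [CommRing R] [IsDomain R] [IsNoetherianRing R] [CommRing A]
    [IsDomain A] [Algebra R A] [Module.Finite R A] [CommRing B] [Algebra A B] (I : Ideal A) (hI : I ≠ ⊤)
    (hIB : I.map (algebraMap A B) = ⊤) {N : Type*} [AddCommGroup N] [Module B N] [Module A N]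
    [IsScalarTower A B N] [Module R N] [IsScalarTower R A N] (f : N →ₗ[R] R) : f = 0 := by
  classical
  have hNI : I • (⊤ : Submodule A N) = ⊤ := by
    refine top_le_iff.1 fun x _ => ?_
    have h1 : (1 : B) ∈ I.map (algebraMap A B) := hIB ▸ trivial
    suffices ∀ b ∈ I.map (algebraMap A B), b • x ∈ I • (⊤ : Submodule A N) by
      simpa using this 1 h1
    intro b hb
    induction hb using Submodule.span_induction generalizing x with
    | mem z hz =>
      obtain ⟨a, ha, rfl⟩ := hz
      rw [algebraMap_smul]
      exact Submodule.smul_mem_smul ha trivial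
    | zero => simp
    | add a b _ _ ha hb => rw [add_smul]; exact add_mem (ha x trivial) (hb x trivial)
    | smul c a _ ha =>
      rw [smul_eq_mul, mul_comm, mul_smul]
      exact ha (c • x) trivial
  have hpow : ∀ k : ℕ, (I ^ k) • (⊤ : Submodule A N) = ⊤ := by
    intro k
    induction k with
    | zero => simp
    | succ k ih => rw [pow_succ, Submodule.mul_smul, hNI, ih]
  -- functionals as elements of `Hom_R(A, R)`
  by_cases hinj : Function.Injective (algebraMap R A)
  · let Φ : N →ₗ[R] (A →ₗ[R] R) := LinearMap.mk₂ R (fun n a => f (a • n))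
      (fun n n' a => by rw [smul_add, map_add]) (fun r n a => by rw [smul_comm, map_smul])
      (fun n a a' => by rw [add_smul, map_add]) (fun r n a => by rw [smul_assoc, map_smul])
    have hΦ : ∀ (c : A) (n : N) (a : A), Φ (c • n) a = Φ n (c * a) := fun c n a => by
      simp only [Φ, LinearMap.mk₂_apply, mul_smul]; rw [smul_comm]
    ext n
    by_contra hn
    let M := A →ₗ[R] R
    letI : Module A M :=
      { smul := fun c φ => φ.comp (LinearMap.mulLeft R c)
        one_smul := fun φ => LinearMap.ext fun x => by
          change φ (1 * x) = φ x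
          rw [one_mul]
        mul_smul := fun c c' φ => LinearMap.ext fun x => by
          change φ (c * c' * x) = φ (c' * (c * x))
          ring_nf
        smul_zero := fun c => rfl
        smul_add := fun c φ ψ => rfl
        add_smul := fun c c' φ => LinearMap.ext fun x => by
          change φ ((c + c') * x) = φ (c * x) + φ (c' * x)
          rw [add_mul, map_add]
        zero_smul := fun φ => LinearMap.ext fun x => by
          change φ (0 * x) = 0
          rw [zero_mul, map_zero] }
    have hsmul : ∀ (c : A) (φ : M) (x : A), (c • φ) x = φ (c * x) := fun _ _ _ => rfl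
    haveI : IsScalarTower R A M := ⟨fun r c φ => LinearMap.ext fun x => by
      rw [hsmul, LinearMap.smul_apply, hsmul, smul_mul_assoc, map_smul]⟩
    haveI : Module.Finite R M := by
      obtain ⟨k, s, hs⟩ := Module.Finite.exists_fin (R := R) (M := A)
      let T : M →ₗ[R] (Fin k → R) := LinearMap.pi fun i => LinearMap.applyₗ (s i)
      refine Module.Finite.of_injective T fun φ ψ h => LinearMap.ext_on_range hs fun i => ?_
      exact congrFun h i
    haveI : Module.Finite A M := Module.Finite.of_restrictScalars_finite R A M
    haveI : IsNoetherianRing A := isNoetherian_of_tower R (isNoetherian_of_isNoetherianRing_of_finite R A)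
    haveI : Module.IsTorsionFree A M := by
      refine Module.isTorsionFree_iff_smul_eq_zero.2 fun c φ h => ?_
      by_contra hcφ
      obtain ⟨hc, hφ⟩ := not_or.1 hcφ
      haveI : Algebra.IsIntegral R A := Algebra.IsIntegral.of_finite R A
      obtain ⟨r, hr, c', hc'⟩ : ∃ r : R, r ≠ 0 ∧ ∃ c', c * c' = algebraMap R A r := by
        obtain ⟨r, hr, hrmem⟩ := Submodule.exists_mem_ne_zero_of_ne_bot
          (p := Ideal.comap (algebraMap R A) (Ideal.span {c}))
          (Ideal.comap_ne_bot_of_integral_mem hc (Ideal.mem_span_singleton_self c)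
            (Algebra.IsIntegral.isIntegral c))
        obtain ⟨c', hc'⟩ := Ideal.mem_span_singleton.1 (Ideal.mem_comap.1 hr)
        exact ⟨r, hrmem, c', hc'.symm⟩
      refine hφ (LinearMap.ext fun x => ?_)
      have := congr($h (c' * x))
      rw [hsmul, ← mul_assoc, hc', ← Algebra.smul_def, map_smul] at this
      exact (smul_eq_zero.1 this).resolve_left hr
    let ΦA : N →ₗ[A] M :=
      { toFun := fun m => Φ m
        map_add' := map_add Φ
        map_smul' := fun c m => LinearMap.ext fun x => hΦ c m x }
    have h0 : ΦA n ∈ (⨅ k : ℕ, I ^ k • ⊤ : Submodule A M) := by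
      refine Submodule.mem_iInf _ |>.2 fun k => ?_
      have : n ∈ (I ^ k) • (⊤ : Submodule A N) := (hpow k).ge trivial
      refine Submodule.smul_induction_on this (fun a ha m _ => ?_) fun x y hx hy => ?_
      · rw [map_smul]; exact Submodule.smul_mem_smul ha trivial
      · rw [map_add]; exact add_mem hx hy
    rw [Ideal.iInf_pow_smul_eq_bot_of_isTorsionFree I hI, Submodule.mem_bot] at h0
    have := congr($h0 1)
    change f ((1 : A) • n) = 0 at this
    rw [one_smul] at this
    exact hn this
  · obtain ⟨r, hr0, hr⟩ : ∃ r : R, r ≠ 0 ∧ algebraMap R A r = 0 := by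
      rw [injective_iff_map_eq_zero] at hinj
      push Not at hinj
      obtain ⟨r, hr, hr0⟩ := hinj
      exact ⟨r, hr0, hr⟩
    ext n
    have : r • f n = 0 := by
      rw [← map_smul, ← algebraMap_smul A r n, hr, zero_smul, map_zero]
    exact (smul_eq_zero.1 this).resolve_left hr0

end Groth.Lichtenbaum
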