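import Groth.Agent.Lichtenbaum.ResChain
import Groth.Agent.CohBase.CechClass
import Groth.Agent.CohBase.FiniteBC.PushNat

/-! Chains of maps killing the cohomology of the pieces of a Čech resolution. -/

set_option linter.style.haveILetI false
universe u

open CategoryTheory CategoryTheory.Limits AlgebraicGeometry TopologicalSpace Opposite
open CategoryTheory.Abelian (Ext)
open Groth.CohBase Groth.CohBase.FiniteBC

namespace Groth.Lichtenbaum

variable {X : Scheme.{u}} {ι : Type u} (W : ι → X.Opens)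

/-- The pushforward of the restriction to an open subscheme. -/
noncomputable abbrev pushRes (T : X.Opens) : X.Modules ⥤ X.Modules :=
  Scheme.Modules.restrictFunctor T.ι ⋙ Scheme.Modules.pushforward T.ι

lemma image_preimage_eq (T A : X.Opens) : T.ι ''ᵁ (T.ι ⁻¹ᵁ A) = A ⊓ T := by
  rw [Scheme.Hom.image_preimage_eq_opensRange_inf, Scheme.Opens.opensRange_ι, inf_comm]

lemma pushRes_smul (F : X.Modules) (T A : X.Opens) (r : Γ(X, A))
    (z : Γ(F, T.ι ''ᵁ (T.ι ⁻¹ᵁ A))) :
    (show Γ(F, T.ι ''ᵁ (T.ι ⁻¹ᵁ A)) from r • (show Γ((pushRes T).obj F, A) from z)) =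
      QCohMod.resFun X ((image_preimage_eq T A).le.trans inf_le_left) r • z := by
  change (T.ι.appIso (T.ι ⁻¹ᵁ A)).inv (T.ι.app A r) • z = _
  rw [Scheme.Opens.ι_appIso, Scheme.Opens.ι_app]
  rfl

/-- The projection of the Čech sheaf onto a factor. -/
noncomputable def csProj (F : X.Modules) (n : ℕ) (x : Fin (n + 1) → ι) :
    csMod W F n ⟶ (pushRes (tupOpen W x)).obj F :=
  ⟨PresheafOfModules.homMk
    { app := fun A => AddCommGrpCat.ofHom
        (AddMonoidHom.mk' (fun (s : CsSec W F n A.unop) =>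
          (show Γ((pushRes (tupOpen W x)).obj F, A.unop) from
            QCohMod.res F (image_preimage_eq (tupOpen W x) A.unop).le (s x)))
          fun s t => map_add _ _ _)
      naturality := fun A A' i => by
        refine AddCommGrpCat.ext fun (s : CsSec W F n A.unop) => ?_
        change QCohMod.res F (image_preimage_eq (tupOpen W x) A'.unop).le
            (QCohMod.res F (inf_le_inf_right _ (leOfHom i.unop)) (s x)) =
          QCohMod.res F (Scheme.Hom.image_mono _ ((tupOpen W x).ι.preimage_mono (leOfHom i.unop)))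
            (QCohMod.res F (image_preimage_eq (tupOpen W x) A.unop).le (s x))
        rw [QCohMod.res_res, QCohMod.res_res] }
    (fun A r (s : CsSec W F n A.unop) => by
      refine Eq.trans ?_ (pushRes_smul F (tupOpen W x) A.unop r _).symm
      change QCohMod.res F _ (QCohMod.resFun X (inf_le_left : A.unop ⊓ tupOpen W x ≤ A.unop) r • s x) = _
      refine (QCohMod.res_smul F _ _ _).trans ?_
      exact congrArg (· • QCohMod.res F (image_preimage_eq (tupOpen W x) A.unop).le (s x))
        (QCohMod.resFun_resFun _ _ (r : Γ(X, A.unop))))⟩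

open scoped Classical in
/-- A section of the Čech sheaf concentrated in one component. -/
noncomputable def single (F : X.Modules) (n : ℕ) (x : Fin (n + 1) → ι) (A : X.Opens)
    (z : Γ(F, (tupOpen W x).ι ''ᵁ ((tupOpen W x).ι ⁻¹ᵁ A))) : CsSec W F n A :=
  fun y => if h : x = y then h ▸ QCohMod.res F (image_preimage_eq (tupOpen W x) A).ge z else 0

lemma single_self (F : X.Modules) (n : ℕ) (x : Fin (n + 1) → ι) (A : X.Opens)
    (z : Γ(F, (tupOpen W x).ι ''ᵁ ((tupOpen W x).ι ⁻¹ᵁ A))) :
    single W F n x A z x = QCohMod.res F (image_preimage_eq (tupOpen W x) A).ge z := by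
  simp [single]

lemma single_ne (F : X.Modules) (n : ℕ) {x y : Fin (n + 1) → ι} (A : X.Opens)
    (z : Γ(F, (tupOpen W x).ι ''ᵁ ((tupOpen W x).ι ⁻¹ᵁ A))) (h : x ≠ y) :
    single W F n x A z y = 0 := by
  simp [single, h]

lemma single_add (F : X.Modules) (n : ℕ) (x : Fin (n + 1) → ι) (A : X.Opens)
    (z z' : Γ(F, (tupOpen W x).ι ''ᵁ ((tupOpen W x).ι ⁻¹ᵁ A))) :
    single W F n x A (z + z') = single W F n x A z + single W F n x A z' := by
  funext y
  rw [Pi.add_apply]
  by_cases h : x = y
  · subst h; rw [single_self, single_self, single_self, map_add]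
  · rw [single_ne W F n _ _ h, single_ne W F n _ _ h, single_ne W F n _ _ h, add_zero]

lemma single_res (F : X.Modules) (n : ℕ) (x : Fin (n + 1) → ι) {A A' : X.Opens} (h : A' ≤ A)
    (h' : (tupOpen W x).ι ''ᵁ ((tupOpen W x).ι ⁻¹ᵁ A') ≤ (tupOpen W x).ι ''ᵁ ((tupOpen W x).ι ⁻¹ᵁ A))
    (z : Γ(F, (tupOpen W x).ι ''ᵁ ((tupOpen W x).ι ⁻¹ᵁ A))) (y : Fin (n + 1) → ι) :
    single W F n x A' (QCohMod.res F h' z) y =
      QCohMod.res F (inf_le_inf_right (tupOpen W y) h) (single W F n x A z y) := by
  by_cases hxy : x = y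
  · subst hxy; rw [single_self, single_self, QCohMod.res_res, QCohMod.res_res]
  · rw [single_ne W F n _ _ hxy, single_ne W F n _ _ hxy, map_zero]

lemma single_smul (F : X.Modules) (n : ℕ) (x : Fin (n + 1) → ι) (A : X.Opens) (r : Γ(X, A))
    (z : Γ(F, (tupOpen W x).ι ''ᵁ ((tupOpen W x).ι ⁻¹ᵁ A))) :
    single W F n x A
        (QCohMod.resFun X ((image_preimage_eq (tupOpen W x) A).le.trans inf_le_left) r • z) =
      csSmul W F n A r (single W F n x A z) := by
  funext y
  rw [csSmul]
  by_cases h : x = y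
  · subst h; rw [single_self, single_self, QCohMod.res_smul, QCohMod.resFun_resFun]
  · rw [single_ne W F n _ _ h, single_ne W F n _ _ h, smul_zero]

/-- The inclusion of a factor, on sections. -/
noncomputable def injFun (F : X.Modules) (n : ℕ) (x : Fin (n + 1) → ι) (A : X.Opens) :
    Γ((pushRes (tupOpen W x)).obj F, A) →+ CsSec W F n A :=
  AddMonoidHom.mk' (fun z => single W F n x A z) (fun z z' => single_add W F n x A z z')

/-- The inclusion of a factor into the Čech sheaf. -/
noncomputable def csInj (F : X.Modules) (n : ℕ) (x : Fin (n + 1) → ι) :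
    (pushRes (tupOpen W x)).obj F ⟶ csMod W F n :=
  ⟨PresheafOfModules.homMk
    { app := fun A => AddCommGrpCat.ofHom (injFun W F n x A.unop)
      naturality := fun A A' i => by
        refine AddCommGrpCat.ext fun z => funext fun y => ?_
        exact single_res W F n x (leOfHom i.unop)
          (Scheme.Hom.image_mono _ ((tupOpen W x).ι.preimage_mono (leOfHom i.unop))) z y }
    (fun A r z => (congrArg (single W F n x A.unop) (pushRes_smul F (tupOpen W x) A.unop r z)).trans
      (single_smul W F n x A.unop r z))⟩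

lemma csProj_naturality {F G : X.Modules} (θ : F ⟶ G) (n : ℕ) (x : Fin (n + 1) → ι) :
    csMap W θ n ≫ csProj W G n x = csProj W F n x ≫ (pushRes (tupOpen W x)).map θ :=
  CohTwo.hom_ext_app fun A (s : CsSec W F n A) => QCohMod.res_app θ _ (s x)

lemma sum_csProj_csInj [Fintype ι] (F : X.Modules) (n : ℕ) :
    ∑ x : Fin (n + 1) → ι, csProj W F n x ≫ csInj W F n x = 𝟙 _ := by
  classical
  refine CohTwo.hom_ext_app fun A (s : CsSec W F n A) => funext fun y => ?_
  let ev : (csMod W F n ⟶ csMod W F n) →+ Γ(F, A ⊓ tupOpen W y) :=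
    { toFun := fun φ => (show CsSec W F n A from φ.app A s) y
      map_zero' := rfl
      map_add' := fun _ _ => rfl }
  refine (map_sum ev _ _).trans ?_
  rw [Finset.sum_eq_single y]
  · change single W F n y A (QCohMod.res F _ (s y)) y = s y
    rw [single_self, QCohMod.res_res, QCohMod.res_self]
  · intro x _ hxy
    exact single_ne W F n A _ hxy
  · exact fun h => absurd (Finset.mem_univ y) h

/-- A map killing the cohomology upstairs kills the cohomology of the affine direct image. -/
theorem push_kills {X' : Scheme.{u}} (f : X' ⟶ X) [IsAffineHom f] {N N' : X'.Modules} [N'.IsQuasicoherent]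
    (φ : N ⟶ N') (q : ℕ) (h : ∀ y : Coh.HH X' N q, Sheaf.H.map ((toAbF X').map φ) q y = 0)
    (e : Ext (constZ X.toTopCat) ((toAbF X).obj ((Scheme.Modules.pushforward f).obj N)) q) :
    e.comp (Ext.mk₀ ((toAbF X).map ((Scheme.Modules.pushforward f).map φ))) (add_zero q) = 0 := by
  have key : pushMap f.base (abSheaf N') q
      (Ext.comp (e : Ext (constZ X.toTopCat) ((pushSheaf f.base).obj (abSheaf N)) q)
        (Ext.mk₀ ((pushSheaf f.base).map ((toAbF X').map φ))) (add_zero q)) = 0 :=
    (pushMap_natural f.base ((toAbF X').map φ) q e).trans (h _)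
  exact (pushMap_bijective f.base (pushAcyclic_of_isAffineHom f N') q).1 (key.trans (map_zero _).symm)

variable [Finite ι]

/-- A map killing the cohomology on each intersection kills the cohomology of the Čech sheaves. -/
theorem csMap_kills {F G : X.Modules} [F.IsQuasicoherent] [G.IsQuasicoherent] (θ : F ⟶ G) (n q : ℕ)
    (haff : ∀ x : Fin (n + 1) → ι, IsAffineHom (tupOpen W x).ι)
    (h : ∀ (x : Fin (n + 1) → ι) (y : Coh.HH (tupOpen W x).toScheme (F.restrict (tupOpen W x).ι) q),
      Sheaf.H.map ((toAbF (tupOpen W x).toScheme).map ((Scheme.Modules.restrictFunctor (tupOpen W x).ι).map θ)) q y = 0)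
    (e : Ext (constZ X.toTopCat) ((toAbF X).obj (csMod W F n)) q) :
    e.comp (Ext.mk₀ ((toAbF X).map (csMap W θ n))) (add_zero q) = 0 := by
  classical
  haveI := Fintype.ofFinite ι
  have hθ : csMap W θ n = ∑ x : Fin (n + 1) → ι,
      csProj W F n x ≫ (pushRes (tupOpen W x)).map θ ≫ csInj W G n x := by
    conv_lhs => rw [← Category.comp_id (csMap W θ n), ← sum_csProj_csInj W G n, Preadditive.comp_sum]
    exact Finset.sum_congr rfl fun x _ => by rw [← Category.assoc, csProj_naturality, Category.assoc]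
  rw [hθ, Functor.map_sum]
  let post : (((toAbF X).obj (csMod W F n)) ⟶ ((toAbF X).obj (csMod W G n))) →+
      Ext (constZ X.toTopCat) ((toAbF X).obj (csMod W G n)) q :=
    { toFun := fun φ => e.comp (Ext.mk₀ φ) (add_zero q)
      map_zero' := by rw [Ext.mk₀_zero, Ext.comp_zero]
      map_add' := fun a b => by rw [Ext.mk₀_add, Ext.comp_add] }
  refine (map_sum post _ _).trans (Finset.sum_eq_zero fun x _ => ?_)
  change e.comp (Ext.mk₀ ((toAbF X).map (csProj W F n x ≫ (pushRes (tupOpen W x)).map θ ≫ csInj W G n x))) (add_zero q) = 0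
  rw [Functor.map_comp, Functor.map_comp, ← Ext.mk₀_comp_mk₀, ← Ext.mk₀_comp_mk₀,
    ← Ext.comp_assoc_of_third_deg_zero, ← Ext.comp_assoc_of_third_deg_zero]
  haveI := haff x
  haveI : (F.restrict (tupOpen W x).ι).IsQuasicoherent :=
    Scheme.Modules.isQuasicoherent_restrictFunctor (tupOpen W x).ι F
  haveI : (G.restrict (tupOpen W x).ι).IsQuasicoherent :=
    Scheme.Modules.isQuasicoherent_restrictFunctor (tupOpen W x).ι G
  have h0 : (e.comp (Ext.mk₀ ((toAbF X).map (csProj W F n x))) (add_zero q)).comp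
      (Ext.mk₀ ((toAbF X).map ((pushRes (tupOpen W x)).map θ))) (add_zero q) = 0 :=
    push_kills (tupOpen W x).ι ((Scheme.Modules.restrictFunctor (tupOpen W x).ι).map θ) q (h x) _
  rw [h0, Ext.zero_comp]

/-- The hypothesis on a chain of maps of modules. -/
def ChainKills (G : ℕ → X.Modules) (θ : ∀ t, G (t + 1) ⟶ G t) (d : ℕ) : Prop :=
  ∀ t n q : ℕ, n + q + 1 ≤ d → ∀ e : Ext (constZ X.toTopCat) ((toAbF X).obj (csMod W (G (t + 1)) n)) (q + 1),
    e.comp (Ext.mk₀ ((toAbF X).map (csMap W (θ t) n))) (add_zero (q + 1)) = 0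

/-- The composite of a chain. -/
noncomputable def chainMap (G : ℕ → X.Modules) (θ : ∀ t, G (t + 1) ⟶ G t) : ∀ p, G p ⟶ G 0
  | 0 => 𝟙 _
  | p + 1 => θ p ≫ chainMap G θ p

variable (hcov : ⨆ i, W i = ⊤) (G : ℕ → X.Modules) (θ : ∀ t, G (t + 1) ⟶ G t)

/-- The chain of resolutions of abelian sheaves. -/
noncomputable abbrev abChain (t : ℕ) : Res (AbSheaf X.toTopCat) := (cechRes W (G t) hcov).ab

/-- The maps of the chain. -/
noncomputable abbrev abChainMap (t : ℕ) : Res.Hom (abChain W hcov G (t + 1)) (abChain W hcov G t) :=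
  (cechResMap W hcov (θ t)).mapExact (toAbF X)

omit [Finite ι] in
lemma kills_abChain {d : ℕ} (h : ChainKills W G θ d) :
    Kills (freeOpen (X := X.toTopCat) ⊤) (abChain W hcov G) (abChainMap W hcov G θ) d := by
  intro t n q hnq e
  refine (equivHTop (X := X.toTopCat) _ (q + 1)).symm.injective ?_
  refine Eq.trans ?_ (map_zero _).symm
  refine Eq.trans ?_ (h t n q hnq ((equivHTop (X := X.toTopCat) _ (q + 1)).symm e))
  refine (AddEquiv.symm_apply_eq _).2 ?_
  exact (congrArg (fun z => Ext.comp z (Ext.mk₀ ((toAbF X).map (csMap W (θ t) n))) (add_zero (q + 1)))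
    ((equivHTop (X := X.toTopCat) _ (q + 1)).apply_symm_apply e).symm).trans
    (equivHTop_map (X := X.toTopCat) ((toAbF X).map (csMap W (θ t) n)) (q + 1) _).symm

omit [Finite ι] in
lemma chainHom_abChain : ∀ p : ℕ,
    (chainHom (abChain W hcov G) (abChainMap W hcov G θ) p).f₀ = (toAbF X).map (chainMap G θ p) ∧
    ∀ n, (chainHom (abChain W hcov G) (abChainMap W hcov G θ) p).f n =
      (toAbF X).map (csMap W (chainMap G θ p) n)
  | 0 => by
    refine ⟨((toAbF X).map_id _).symm, fun n => ?_⟩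
    rw [show csMap W (chainMap G θ 0) n = 𝟙 _ from CohTwo.hom_ext_app fun A (s : CsSec W (G 0) n A) => rfl]
    exact ((toAbF X).map_id _).symm
  | p + 1 => by
    obtain ⟨h₀, h⟩ := chainHom_abChain p
    refine ⟨?_, fun n => ?_⟩
    · exact (congrArg (fun g => (toAbF X).map (θ p) ≫ g) h₀).trans ((toAbF X).map_comp _ _).symm
    · rw [show csMap W (chainMap G θ (p + 1)) n = csMap W (θ p) n ≫ csMap W (chainMap G θ p) n from
        CohTwo.hom_ext_app fun A (s : CsSec W (G (p + 1)) n A) => rfl]
      exact (congrArg (fun g => (toAbF X).map (csMap W (θ p) n) ≫ g) (h n)).trans ((toAbF X).map_comp _ _).symm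

omit [Finite ι] in
/-- A Čech cocycle with vanishing class becomes a coboundary at the end of the chain. -/
theorem mem_bd_of_clsTop_eq_zero (p : ℕ) (h : ChainKills W G θ p)
    (z : (cechRes W (G p) hcov).Cyc ⊤ p) (hz : Res.clsTop (cechRes W (G p) hcov) p z = 0) :
    (csMap W (chainMap G θ p) p).app ⊤ z.1 ∈ (cechRes W (G 0) hcov).Bd ⊤ p := by
  let R := cechRes W (G p) hcov
  let R₀ := cechRes W (G 0) hcov
  have hz' : Res.cls (freeOpen (X := X.toTopCat) ⊤) p R.ab
      ⟨Res.toFree R ⊤ p z.1, by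
        change Res.toFree R ⊤ p z.1 ≫ R.ab.d p = 0
        rw [Res.toFree_comp_d, Res.mem_cyc.1 z.2, map_zero]⟩ = 0 := by
    have := congrArg (equivHTop (X := X.toTopCat) (abSheaf R.Y) p) hz
    rw [map_zero] at this
    exact (((equivHTop (X := X.toTopCat) (abSheaf R.Y) p).apply_symm_apply _).symm.trans this : _)
  have := mem_cobound_of_cls_eq_zero (freeOpen (X := X.toTopCat) ⊤) p (abChain W hcov G)
    (abChainMap W hcov G θ) (kills_abChain W hcov G θ h) _ hz'
  have e : Res.toFree R ⊤ p z.1 ≫ (chainHom (abChain W hcov G) (abChainMap W hcov G θ) p).f p =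
      Res.toFree R₀ ⊤ p ((csMap W (chainMap G θ p) p).app ⊤ z.1) := by
    rw [(chainHom_abChain W hcov G θ p).2 p]
    apply (homFreeOpen (X := X.toTopCat) ⊤ (R₀.ab.A p)).injective
    refine (homFreeOpen_comp (X := X.toTopCat) ⊤ _ _).trans ?_
    rw [Res.toFree, Res.toFree]
    erw [AddEquiv.apply_symm_apply, AddEquiv.apply_symm_apply]
    rfl
  rw [e] at this
  cases p with
  | zero =>
    refine Res.mem_bd_zero.2 ?_
    exact (Res.toFree R₀ ⊤ 0).injective (this.trans (map_zero _).symm)
  | succ p =>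
    obtain ⟨g, hg⟩ := this
    refine Res.mem_bd_succ.2 ⟨(Res.toFree R₀ ⊤ p).symm g, (Res.toFree R₀ ⊤ (p + 1)).injective ?_⟩
    refine ((Res.toFree_comp_d (R := R₀) ⊤ p _).symm.trans ?_)
    rw [AddEquiv.apply_symm_apply]
    exact hg

omit [Finite ι] in
/-- Every class becomes a Čech class at the end of the chain. -/
theorem exists_clsTop_eq (p : ℕ) (h : ChainKills W G θ p) (e : Coh.HH X (G p) p) :
    ∃ z : (cechRes W (G 0) hcov).Cyc ⊤ p,
      Res.clsTop (cechRes W (G 0) hcov) p z = Sheaf.H.map ((toAbF X).map (chainMap G θ p)) p e := by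
  let R₀ := cechRes W (G 0) hcov
  obtain ⟨c, hc⟩ := exists_cls_eq (freeOpen (X := X.toTopCat) ⊤) p (abChain W hcov G)
    (abChainMap W hcov G θ) (kills_abChain W hcov G θ h)
    (equivHTop (X := X.toTopCat) (abSheaf (G p)) p e)
  refine ⟨⟨(Res.toFree R₀ ⊤ p).symm c.1, ?_⟩, ?_⟩
  · refine Res.mem_cyc.2 ((Res.toFree R₀ ⊤ (p + 1)).injective ?_)
    rw [map_zero, ← Res.toFree_comp_d, AddEquiv.apply_symm_apply]
    exact c.2
  · apply (equivHTop (X := X.toTopCat) (abSheaf R₀.Y) p).injective
    refine ((equivHTop (X := X.toTopCat) (abSheaf R₀.Y) p).apply_symm_apply _).trans ?_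
    refine Eq.trans ?_ (equivHTop_map (X := X.toTopCat) ((toAbF X).map (chainMap G θ p)) p e).symm
    refine (congrArg (Res.cls (freeOpen (X := X.toTopCat) ⊤) p R₀.ab)
      (Subtype.ext ((Res.toFree R₀ ⊤ p).apply_symm_apply c.1))).trans (hc.trans ?_)
    rw [(chainHom_abChain W hcov G θ p).1]
    rfl

end Groth.Lichtenbaum
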