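import Groth.Agent.CohBase.CechClass
import Groth.Agent.CohTwo.CohSub
import Groth.Agent.PropsBasic2.NoethScheme

/-! Cohomology classes of a quasi-coherent module come from coherent submodules. -/

universe u

open CategoryTheory CategoryTheory.Limits AlgebraicGeometry TopologicalSpace Opposite
open Groth.CohBase

namespace Groth.Lichtenbaum

variable {X : Scheme.{u}}

lemma isAffineOpen_tup [X.IsSeparated] {ι : Type u} (U : ι → X.Opens) (hU : ∀ i, IsAffineOpen (U i)) :
    ∀ {n : ℕ} (x : Fin (n + 1) → ι), IsAffineOpen (tupOpen U x)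
  | 0, x => by
    have : tupOpen U x = U (x 0) := by
      refine le_antisymm (inter_le (X := X.toTopCat) U x 0) ?_
      rw [show x = fun _ => x 0 from funext fun a => by rw [Fin.fin_one_eq_zero a], tupOpen, inter_one]
    exact this ▸ hU _
  | n + 1, x => by
    have h : tupOpen U x = U (x 0) ⊓ tupOpen U (Fin.tail x) := by
      conv_lhs => rw [← Fin.cons_self_tail x]
      exact inter_cons (X := X.toTopCat) U _ _
    exact h ▸ (hU _).inf (isAffineOpen_tup U hU _)

/-- Every cohomology class of a quasi-coherent module is the image of a class of a coherent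
submodule. -/
theorem exists_coh_preimage [IsNoetherian X] [X.IsSeparated] (G : X.Modules) [G.IsQuasicoherent] (p : ℕ)
    (e : Coh.HH X G p) : ∃ (M : X.Modules) (i : M ⟶ G), Mono i ∧ Coh.IsCoh M ∧
      ∃ y : Coh.HH X M p, Sheaf.H.map ((toAbF X).map i) p y = e := by
  classical
  obtain ⟨s, hs⟩ := Groth.PropsBasic2.exists_finite_affine_cover X
  let U : s → X.Opens := fun V => V.1.1
  have hUa : ∀ i, IsAffineOpen (U i) := fun i => i.1.2
  have hcov : ⨆ i, U i = ⊤ := hs
  have hU : ∀ (W : X.Opens), IsAffineOpen W → ∀ {n : ℕ} (x : Fin (n + 1) → s),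
      IsAffineOpen (W ⊓ tupOpen U x) := fun W hW n x => hW.inf (isAffineOpen_tup U hUa x)
  have hR : (cechRes U G hcov).AcyclicOn ⊤ :=
    acyclicOn_cechRes U G hcov (fun x => isAffineOpen_tup U hUa x) hU
  obtain ⟨q, hq⟩ := (Res.hcEquivHHOfAcyclic hR p).surjective e
  obtain ⟨z, rfl⟩ := Submodule.Quotient.mk_surjective _ q
  rw [Res.hcEquivHHOfAcyclic_mk] at hq
  let zs : CsSec U G p ⊤ := z.1
  let J := (Fin (p + 1) → s) ⊕ s
  let W : J → X.Opens := fun j => Sum.elim (fun x => ⊤ ⊓ tupOpen U x) (fun i => U i) j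
  let S : ∀ j, Finset Γ(G, W j) := fun j => match j with
    | Sum.inl x => {zs x}
    | Sum.inr _ => ∅
  have hW : ∀ j, IsAffineOpen (W j) := by
    rintro (x | i)
    · change IsAffineOpen (⊤ ⊓ tupOpen U x)
      rw [top_inf_eq]
      exact isAffineOpen_tup U hUa x
    · exact hUa i
  obtain ⟨M, i, hi, hM, hsec⟩ := CohTwo.exists_coh_sub G W hW (fun x => by
    obtain ⟨k, hk⟩ := Opens.mem_iSup.1 (hcov.ge (Opens.mem_top x))
    exact ⟨Sum.inr k, hk⟩) S
  choose w hw using fun x => hsec (Sum.inl x) (zs x) (Finset.mem_singleton_self _)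
  let φ := cechResMap U hcov i
  let ws : Γ((cechRes U M hcov).A p, ⊤) := (show CsSec U M p ⊤ from w)
  have hmap : (φ.f p).app ⊤ ws = z.1 := funext fun x => hw x
  have hwc : ws ∈ (cechRes U M hcov).Cyc ⊤ p := by
    refine Res.mem_cyc.2 ?_
    have h0 : (φ.f (p + 1)).app ⊤ (((cechRes U M hcov).d p).app ⊤ ws) = 0 := by
      refine Eq.trans ?_ (Res.mem_cyc.1 z.2)
      refine Eq.trans (congrArg (fun γ : (cechRes U M hcov).A p ⟶ (cechRes U G hcov).A (p + 1) =>
        γ.app ⊤ ws) (φ.comm p)) ?_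
      exact congrArg (((cechRes U G hcov).d p).app ⊤) hmap
    refine funext fun x => CohTwo.app_injective i _ ?_
    exact (congrFun h0 x).trans (map_zero _).symm
  refine ⟨M, i, hi, hM, Res.clsTop (cechRes U M hcov) p ⟨ws, hwc⟩, ?_⟩
  exact (Res.clsTop_map φ p ⟨ws, hwc⟩ z hmap.symm).symm.trans hq

end Groth.Lichtenbaum
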