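import Groth.Agent.Lichtenbaum.CechKill
import Groth.Agent.Lichtenbaum.CohPreimage
import Groth.Agent.QCohMod.QCQS

/-! Top cohomology along a proper morphism, through Čech cocycles. -/

set_option linter.style.haveILetI false
universe u

open CategoryTheory CategoryTheory.Limits AlgebraicGeometry TopologicalSpace Opposite
open Groth.CohBase

namespace Groth.Lichtenbaum

variable {X Y : Scheme.{u}} (π : X ⟶ Y) {ι : Type u} (V : ι → Y.Opens)

/-- The inverse images of a family. -/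
abbrev preFam : ι → X.Opens := fun i => π ⁻¹ᵁ V i

lemma preimage_tup [Finite ι] {n : ℕ} (x : Fin n → ι) :
    π ⁻¹ᵁ tupOpen V x = tupOpen (preFam π V) x := by
  refine le_antisymm (le_iInf fun a => π.preimage_mono (inter_le (X := Y.toTopCat) V x a)) ?_
  intro z hz
  change π z ∈ tupOpen V x
  simp only [tupOpen, inter, ← SetLike.mem_coe, Opens.coe_iInf] at hz ⊢
  simp only [Set.mem_iInter] at hz ⊢
  exact hz

lemma iSup_preFam (hcov : ⨆ i, V i = ⊤) : ⨆ i, preFam π V i = ⊤ := by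
  rw [← Scheme.Hom.preimage_iSup, hcov, Scheme.Hom.preimage_top]

variable [Finite ι]

lemma pre_eq {n : ℕ} (x : Fin (n + 1) → ι) :
    π ⁻¹ᵁ (⊤ ⊓ tupOpen V x) = ⊤ ⊓ tupOpen (preFam π V) x := by
  rw [top_inf_eq, top_inf_eq, preimage_tup]

/-- Global Čech cochains of a direct image are those of the module. -/
noncomputable def pushCs (G : X.Modules) (n : ℕ) :
    CsSec V ((Scheme.Modules.pushforward π).obj G) n ⊤ ≃+ CsSec (preFam π V) G n ⊤ :=
  AddEquiv.piCongrRight fun x => (QCohMod.pushEquiv π G (⊤ ⊓ tupOpen V x)).trans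
    { toFun := QCohMod.res G (pre_eq π V x).ge
      invFun := QCohMod.res G (pre_eq π V x).le
      left_inv := fun s => (QCohMod.res_res G _ _ s).trans (QCohMod.res_self G s)
      right_inv := fun s => (QCohMod.res_res G _ _ s).trans (QCohMod.res_self G s)
      map_add' := fun a b => map_add _ a b }

lemma pushCs_apply (G : X.Modules) (n : ℕ) (s : CsSec V ((Scheme.Modules.pushforward π).obj G) n ⊤)
    (x : Fin (n + 1) → ι) :
    pushCs π V G n s x = QCohMod.res G (pre_eq π V x).ge (QCohMod.pushEquiv π G _ (s x)) := rfl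

lemma pushCs_csd (G : X.Modules) (n : ℕ) (s : CsSec V ((Scheme.Modules.pushforward π).obj G) n ⊤) :
    pushCs π V G (n + 1) (csd V _ n ⊤ s) = csd (preFam π V) G n ⊤ (pushCs π V G n s) := by
  funext x
  rw [pushCs_apply, csd_apply, csd_apply, map_sum, map_sum]
  refine Finset.sum_congr rfl fun a _ => ?_
  rw [map_zsmul, map_zsmul, pushCs_apply, QCohMod.pushEquiv_res, QCohMod.res_res, QCohMod.res_res]

lemma pushCs_csMap {G G' : X.Modules} (θ : G ⟶ G') (n : ℕ)
    (s : CsSec V ((Scheme.Modules.pushforward π).obj G) n ⊤) :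
    pushCs π V G' n ((csMap V ((Scheme.Modules.pushforward π).map θ) n).app ⊤ s) =
      (csMap (preFam π V) θ n).app ⊤ (pushCs π V G n s) := by
  funext x
  exact QCohMod.res_app θ (pre_eq π V x).ge (QCohMod.pushEquiv π G _ (s x))

variable (hcov : ⨆ i, V i = ⊤)

lemma mem_cyc_iff (G : X.Modules) (n : ℕ) (s : CsSec V ((Scheme.Modules.pushforward π).obj G) n ⊤) :
    csd V _ n ⊤ s = 0 ↔ csd (preFam π V) G n ⊤ (pushCs π V G n s) = 0 := by
  rw [← pushCs_csd, AddEquiv.map_eq_zero_iff]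

lemma mem_bd_iff (G : X.Modules) (n : ℕ) (s : CsSec V ((Scheme.Modules.pushforward π).obj G) n ⊤) :
    (show Γ((cechRes V ((Scheme.Modules.pushforward π).obj G) hcov).A n, ⊤) from s) ∈
        (cechRes V ((Scheme.Modules.pushforward π).obj G) hcov).Bd ⊤ n ↔
      (show Γ((cechRes (preFam π V) G (iSup_preFam π V hcov)).A n, ⊤) from pushCs π V G n s) ∈
        (cechRes (preFam π V) G (iSup_preFam π V hcov)).Bd ⊤ n := by
  cases n with
  | zero =>
    refine Iff.trans Res.mem_bd_zero (Iff.trans ?_ Res.mem_bd_zero.symm)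
    exact ((pushCs π V G 0).map_eq_zero_iff).symm
  | succ n =>
    refine Iff.trans Res.mem_bd_succ (Iff.trans ?_ Res.mem_bd_succ.symm)
    constructor
    · rintro ⟨(w : CsSec V _ n ⊤), hw⟩
      exact ⟨(pushCs π V G n w : CsSec (preFam π V) G n ⊤), (pushCs_csd π V G n w).symm.trans (congrArg _ hw)⟩
    · rintro ⟨(w : CsSec (preFam π V) G n ⊤), hw⟩
      refine ⟨((pushCs π V G n).symm w : CsSec V _ n ⊤), (pushCs π V G (n + 1)).injective ?_⟩
      refine (pushCs_csd π V G n _).trans ?_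
      rw [AddEquiv.apply_symm_apply]
      exact hw

variable [QuasiCompact π] [QuasiSeparated π] [Y.IsSeparated]

lemma acyclic_push (hV : ∀ i, IsAffineOpen (V i)) (G : X.Modules) [G.IsQuasicoherent] :
    (cechRes V ((Scheme.Modules.pushforward π).obj G) hcov).AcyclicOn ⊤ :=
  haveI := QCohMod.isQCoh_pushforward G π
  acyclicOn_cechRes V _ hcov (fun x => isAffineOpen_tup V hV x)
    fun _ hW _ x => hW.inf (isAffineOpen_tup V hV x)

variable (G : ℕ → X.Modules) (θ : ∀ t, G (t + 1) ⟶ G t)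

include hcov in
/-- If the top cohomology upstairs vanishes, a killing chain kills the top cohomology downstairs. -/
theorem map_eq_zero_of_chain (hV : ∀ i, IsAffineOpen (V i)) (p : ℕ) [(G p).IsQuasicoherent]
    (h : ChainKills (preFam π V) G θ p) (h0 : Subsingleton (Coh.HH X (G p) p))
    (e : Coh.HH Y ((Scheme.Modules.pushforward π).obj (G p)) p) :
    Sheaf.H.map ((toAbF Y).map ((Scheme.Modules.pushforward π).map (chainMap G θ p))) p e = 0 := by
  obtain ⟨q, rfl⟩ := (Res.hcEquivHHOfAcyclic (acyclic_push π V hcov hV (G p)) p).surjective e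
  obtain ⟨z, rfl⟩ := Submodule.Quotient.mk_surjective _ q
  rw [Res.hcEquivHHOfAcyclic_mk]
  let z' : (cechRes (preFam π V) (G p) (iSup_preFam π V hcov)).Cyc ⊤ p :=
    ⟨(pushCs π V (G p) p z.1 : CsSec (preFam π V) (G p) p ⊤),
      Res.mem_cyc.2 ((mem_cyc_iff π V (G p) p z.1).1 (Res.mem_cyc.1 z.2))⟩
  have hb := mem_bd_of_clsTop_eq_zero (preFam π V) (iSup_preFam π V hcov) G θ p h z' (@Subsingleton.elim _ h0 _ _)
  let φ := cechResMap V hcov ((Scheme.Modules.pushforward π).map (chainMap G θ p))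
  let w : Γ((cechRes V ((Scheme.Modules.pushforward π).obj (G 0)) hcov).A p, ⊤) := (φ.f p).app ⊤ z.1
  have hw : w ∈ (cechRes V ((Scheme.Modules.pushforward π).obj (G 0)) hcov).Bd ⊤ p := by
    refine (mem_bd_iff π V hcov (G 0) p w).2 ?_
    have e := pushCs_csMap π V (chainMap G θ p) p z.1
    exact (e.symm ▸ hb : _)
  refine (Res.clsTop_map φ p z ⟨w, Res.bd_le_cyc ⊤ p hw⟩ rfl).symm.trans ?_
  refine (equivHTop (X := Y.toTopCat) (abSheaf _) p).injective ?_
  refine Eq.trans ?_ (map_zero _).symm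
  refine ((equivHTop (X := Y.toTopCat) (abSheaf _) p).apply_symm_apply _).trans ?_
  cases p with
  | zero =>
    have : (⟨w, Res.bd_le_cyc ⊤ 0 hw⟩ :
        (cechRes V ((Scheme.Modules.pushforward π).obj (G 0)) hcov).Cyc ⊤ 0) = 0 :=
      Subtype.ext (Res.mem_bd_zero.1 hw)
    rw [this, map_zero]
  | succ p =>
    obtain ⟨g, hg⟩ := Res.mem_bd_succ.1 hw
    refine Res.cls_eq_zero_of_cobound _ _ _ _ ((Groth.SiteCohomology.AcyclicRes.mem_cobound_succ _ _ _).2
      ⟨Res.toFree _ ⊤ p g, (Res.toFree_comp_d ⊤ p g).trans (congrArg (Res.toFree _ ⊤ (p + 1)) hg)⟩)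

include hcov in
/-- If the top cohomology downstairs vanishes, a killing chain kills the top cohomology upstairs. -/
theorem map_eq_zero_of_chain' (hV : ∀ i, IsAffineOpen (V i)) (p : ℕ) [(G 0).IsQuasicoherent]
    (h : ChainKills (preFam π V) G θ p)
    (h0 : Subsingleton (Coh.HH Y ((Scheme.Modules.pushforward π).obj (G 0)) p))
    (e : Coh.HH X (G p) p) : Sheaf.H.map ((toAbF X).map (chainMap G θ p)) p e = 0 := by
  obtain ⟨z, hz⟩ := exists_clsTop_eq (preFam π V) (iSup_preFam π V hcov) G θ p h e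
  rw [← hz]
  let w : (cechRes V ((Scheme.Modules.pushforward π).obj (G 0)) hcov).Cyc ⊤ p :=
    ⟨((pushCs π V (G 0) p).symm z.1 : CsSec V _ p ⊤), Res.mem_cyc.2 ((mem_cyc_iff π V (G 0) p _).2
      ((congrArg (csd (preFam π V) (G 0) p ⊤)
        ((pushCs π V (G 0) p).apply_symm_apply (show CsSec (preFam π V) (G 0) p ⊤ from z.1))).trans
          (Res.mem_cyc.1 z.2)))⟩
  have hw0 : Res.hcEquivHHOfAcyclic (acyclic_push π V hcov hV (G 0)) p (Submodule.Quotient.mk w) = 0 :=
    @Subsingleton.elim _ h0 _ _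
  have hw1 := (LinearEquiv.map_eq_zero_iff _).1 hw0
  have hw2 := (Submodule.Quotient.mk_eq_zero _).1 hw1
  have hw : w.1 ∈ (cechRes V ((Scheme.Modules.pushforward π).obj (G 0)) hcov).Bd ⊤ p := hw2
  have hz' : z.1 ∈ (cechRes (preFam π V) (G 0) (iSup_preFam π V hcov)).Bd ⊤ p := by
    have := (mem_bd_iff π V hcov (G 0) p w.1).1 hw
    rwa [show pushCs π V (G 0) p w.1 = z.1 from AddEquiv.apply_symm_apply _ _] at this
  refine (equivHTop (X := X.toTopCat) (abSheaf _) p).injective ?_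
  refine Eq.trans ?_ (map_zero _).symm
  refine ((equivHTop (X := X.toTopCat) (abSheaf _) p).apply_symm_apply _).trans ?_
  cases p with
  | zero =>
    rw [show z = 0 from Subtype.ext (Res.mem_bd_zero.1 hz'), map_zero]
  | succ p =>
    obtain ⟨g, hg⟩ := Res.mem_bd_succ.1 hz'
    refine Res.cls_eq_zero_of_cobound _ _ _ _ ((Groth.SiteCohomology.AcyclicRes.mem_cobound_succ _ _ _).2
      ⟨Res.toFree _ ⊤ p g, (Res.toFree_comp_d ⊤ p g).trans (congrArg (Res.toFree _ ⊤ (p + 1)) hg)⟩)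

end Groth.Lichtenbaum
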