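import Groth.Agent.Lichtenbaum.CohPreimage
import Groth.Agent.S11314
import Groth.Agent.CohC3.HMap
import Groth.Agent.Curves1.RR.GenusZeroP1
import Groth.Agent.PnCoh.VanishingClosed
import Groth.Agent.PnCoh.Finite
import Groth.Agent.PicAux.MeroRegular
import Groth.Agent.QCohMod.Coherent
import Groth.Agent.QCohMod.Sections

/-! Vanishing of the top cohomology on projective space from the absence of functionals near a point. -/

universe u

open CategoryTheory CategoryTheory.Limits AlgebraicGeometry TopologicalSpace Opposite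
open Groth.CohBase Groth.PicAux

namespace Groth.Lichtenbaum

variable {X : Scheme.{u}}

/-- A map to an invertible module on an integral scheme vanishes if it vanishes on the sections over
a nonempty affine open. -/
theorem hom_eq_zero_of_app_eq_zero [IsIntegral X] {M L : X.Modules} [M.IsQuasicoherent]
    (hL : PicF.IsInvertible L) (φ : M ⟶ L) {V : X.Opens} (hV : IsAffineOpen V) {z : X} (hz : z ∈ V)
    (h : φ.app V = 0) : φ = 0 := by
  have hη : genericPoint X ∈ V :=
    ((genericPoint_spec X).specializes (Set.mem_univ z)).mem_open V.2 hz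
  refine CohTwo.hom_ext_app fun W s => ?_
  refine (CohTwo.eq_of_local L _ 0 fun x hx => ?_).trans rfl
  obtain ⟨U, e, hxU, he⟩ := (isInvertible_iff_exists_gen L).1 hL x
  have hle : W ⊓ U ≤ W := inf_le_left
  refine ⟨W ⊓ U, hle, ⟨hx, hxU⟩, ?_⟩
  rw [map_zero]
  have hηWU : genericPoint X ∈ W ⊓ U :=
    ((genericPoint_spec X).specializes (Set.mem_univ x)).mem_open (W ⊓ U).2 ⟨hx, hxU⟩
  obtain ⟨c, hc⟩ := he.exists_coeff (inf_le_right : W ⊓ U ≤ U) (QCohMod.res L hle (φ.app W s))
  -- the germ at the generic point vanishes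
  have hgerm : QCohMod.germ L (genericPoint X) hηWU (QCohMod.res L hle (φ.app W s)) = 0 := by
    rw [QCohMod.germ_res]
    obtain ⟨g, hgη, hgW⟩ := QCohMod.exists_basicOpen_mem hV hη (hle hηWU)
    obtain ⟨n, t, ht⟩ := QCohMod.exists_pow_smul_eq_res M hV g (QCohMod.res M hgW s)
    have h1 : QCohMod.resFun X (X.basicOpen_le g) g ^ n • φ.app (X.basicOpen g) (QCohMod.res M hgW s) = 0 := by
      rw [← φ.app_smul, ← ht, ← QCohMod.res_app, show φ.app V t = 0 from congr($h t), map_zero]
    have hu : IsUnit (QCohMod.resFun X (X.basicOpen_le g) g) := X.toRingedSpace.isUnit_res_basicOpen g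
    have h2 : φ.app (X.basicOpen g) (QCohMod.res M hgW s) = 0 :=
      (hu.pow n).smul_left_cancel.1 (h1.trans (smul_zero _).symm)
    rw [← QCohMod.germ_res L hgW (genericPoint X) hgη, QCohMod.res_app, h2, map_zero]
  rw [hc] at hgerm
  have hc0 : X.presheaf.germ (W ⊓ U) (genericPoint X) hηWU c = 0 := by
    refine germ_smul_eq_zero he hηWU.2 ?_
    have := (QCohMod.germ_smul L (genericPoint X) hηWU c (PicAux.res L inf_le_right e)).symm.trans hgerm
    rwa [show QCohMod.germ L (genericPoint X) hηWU (PicAux.res L inf_le_right e) =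
      QCohMod.germ L (genericPoint X) hηWU.2 e from
        TopCat.Presheaf.germ_res_apply L.presheaf (homOfLE inf_le_right) _ hηWU e] at this
  have : c = 0 := germ_injective_of_isIntegral X (genericPoint X) hηWU (hc0.trans (map_zero _).symm)
  refine hc.trans ?_
  rw [this, zero_smul]

variable {k : Type u} [Field k] {n : ℕ}

local notation "ℙ" => CohB1.ProjSpace n k

local notation "ωP" => Twist.twistProjSpace n k (-((n : ℤ) + 1))

/-- If near some point there are no nonzero functionals on the sections of a quasi-coherent module,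
its top cohomology on projective space vanishes. -/
theorem subsingleton_HH_of_no_functional (G : (CohB1.ProjSpace n k).Modules) [G.IsQuasicoherent]
    (z : CohB1.ProjSpace n k) (h : ∀ V : (CohB1.ProjSpace n k).Opens, IsAffineOpen V → z ∈ V →
      ∀ f : Γ(G, V) →ₗ[Γ(CohB1.ProjSpace n k, V)] Γ(CohB1.ProjSpace n k, V), f = 0) :
    Subsingleton (Coh.HH (CohB1.ProjSpace n k) G n) := by
  classical
  haveI := PnCoh.isLocallyNoetherian_projSpace n k
  haveI : (CohB1.ProjSpace n k).IsSeparated := ⟨by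
    rw [← terminal.comp_from (CohB1.ProjSpace.toSpec n k)]
    infer_instance⟩
  haveI : CompactSpace (CohB1.ProjSpace n k) :=
    QuasiCompact.compactSpace_of_compactSpace (CohB1.ProjSpace.toSpec n k)
  haveI : AlgebraicGeometry.IsNoetherian (CohB1.ProjSpace n k) := {}
  have hω : PicF.IsInvertible ωP := PnCoh.isInvertible_twist n k _
  obtain ⟨V, e, hV, hzV, he⟩ := exists_affine_gen_mem hω z
  obtain ⟨t, ht⟩ := Groth.Agent.S11314.result k n
  refine subsingleton_of_forall_eq 0 fun x => ?_
  by_contra hx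
  obtain ⟨ψ, hψ⟩ := Module.Projective.exists_dual_ne_zero k hx
  -- the representing morphisms on coherent modules over `G`
  have hrep : ∀ {M : (CohB1.ProjSpace n k).Modules} (i : M ⟶ G), Coh.IsCoh M → ∃ φ : M ⟶ ωP,
      (∀ y : Coh.HH ℙ M n, ψ (CohC3.hmap k i n y) = t (CohC3.hmap k φ n y)) ∧
      ∀ φ' : M ⟶ ωP, (∀ y : Coh.HH ℙ M n, ψ (CohC3.hmap k i n y) = t (CohC3.hmap k φ' n y)) → φ' = φ := by
    intro M i hM
    obtain ⟨φ, hφ, huniq⟩ := ht M hM (ψ.comp (CohC3.hmap k i n))
    exact ⟨φ, hφ, fun φ' h' => huniq φ' h'⟩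
  choose φ hφ hφuniq using fun (M : (CohB1.ProjSpace n k).Modules) (i : M ⟶ G) (hM : Coh.IsCoh M) =>
    hrep i hM
  have hcompat : ∀ {M M' : (CohB1.ProjSpace n k).Modules} (j : M ⟶ M') (i' : M' ⟶ G) (hM : Coh.IsCoh M)
      (hM' : Coh.IsCoh M'), φ M (j ≫ i') hM = j ≫ φ M' i' hM' := by
    intro M M' j i' hM hM'
    refine (hφuniq M (j ≫ i') hM _ fun y => ?_).symm
    rw [← CohC3.hmap_comp, ← CohC3.hmap_comp, hφ M' i' hM']
  -- the functional on sections over `V`
  have hsub : ∀ S : Finset Γ(G, V), ∃ (M : (CohB1.ProjSpace n k).Modules) (i : M ⟶ G), Coh.IsCoh M ∧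
      ∀ m ∈ S, m ∈ Set.range (i.app V) := by
    intro S
    obtain ⟨s, hs⟩ := Groth.PropsBasic2.exists_finite_affine_cover ℙ
    let W : Option s → (CohB1.ProjSpace n k).Opens := fun o => o.elim V fun U => U.1.1
    obtain ⟨M, i, -, hM, hi⟩ := CohTwo.exists_coh_sub G W
      (fun o => match o with
        | none => hV
        | some U => U.1.2)
      (fun x => by
        obtain ⟨U, hU⟩ := Opens.mem_iSup.1 (hs.ge (Opens.mem_top x))
        exact ⟨some U, hU⟩)
      (fun o => match o with
        | none => S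
        | some _ => ∅)
    exact ⟨M, i, hM, fun m hm => hi none m hm⟩
  have hwell : ∀ {M M' : (CohB1.ProjSpace n k).Modules} (i : M ⟶ G) (i' : M' ⟶ G) (hM : Coh.IsCoh M)
      (hM' : Coh.IsCoh M') (m : Γ(M, V)) (m' : Γ(M', V)), i.app V m = i'.app V m' →
      (φ M i hM).app V m = (φ M' i' hM').app V m' := by
    intro M M' i i' hM hM' m m' hmm
    have hS : Coh.IsCoh (M ⊞ M') := QCohMod.isCoh_biprod hM hM'
    haveI := hM.1
    haveI := hM'.1
    haveI := hS.1
    let g := biprod.desc i i'
    have hI : Coh.IsCoh (cokernel (kernel.ι g)) :=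
      by
        haveI := QCohMod.isQCoh_kernel g
        exact QCohMod.isCoh_cokernel (kernel.ι g) hS
    let π : M ⊞ M' ⟶ cokernel (kernel.ι g) := cokernel.π _
    let j : cokernel (kernel.ι g) ⟶ G := cokernel.desc _ g (kernel.condition g)
    haveI : Mono j := inferInstanceAs (Mono (Abelian.factorThruCoimage g))
    have hj : π ≫ j = g := cokernel.π_desc _ _ _
    have e1 : (biprod.inl ≫ π) ≫ j = i := by rw [Category.assoc, hj, biprod.inl_desc]
    have e2 : (biprod.inr ≫ π) ≫ j = i' := by rw [Category.assoc, hj, biprod.inr_desc]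
    have hmm' : (biprod.inl ≫ π).app V m = (biprod.inr ≫ π).app V m' := by
      refine CohTwo.app_injective j V ?_
      change ((biprod.inl ≫ π) ≫ j).app V m = ((biprod.inr ≫ π) ≫ j).app V m'
      rw [e1, e2, hmm]
    have f1 : φ M i hM = (biprod.inl ≫ π) ≫ φ _ j hI := by
      rw [← hcompat (biprod.inl ≫ π) j hM hI]; congr 1; exact e1.symm
    have f2 : φ M' i' hM' = (biprod.inr ≫ π) ≫ φ _ j hI := by
      rw [← hcompat (biprod.inr ≫ π) j hM' hI]; congr 1; exact e2.symm
    rw [f1, f2]
    exact congrArg ((φ _ j hI).app V) hmm'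
  choose Ms is hMs his using fun m : Γ(G, V) => hsub {m}
  choose ms hms using fun m => his m m (Finset.mem_singleton_self m)
  let c : Γ(ωP, V) ≃ₗ[Γ(ℙ, V)] Γ(ℙ, V) :=
    ((LinearEquiv.ofBijective (LinearMap.toSpanSingleton Γ(ℙ, V) Γ(ωP, V) (PicAux.res ωP le_rfl e))
      (he V le_rfl))).symm
  let f : Γ(G, V) →ₗ[Γ(ℙ, V)] Γ(ℙ, V) :=
    { toFun := fun m => c ((φ _ (is m) (hMs m)).app V (ms m))
      map_add' := fun a b => by
        rw [← map_add]
        congr 1
        obtain ⟨M, i, hM, hi⟩ := hsub {a, b}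
        obtain ⟨a', ha⟩ := hi a (by simp)
        obtain ⟨b', hb⟩ := hi b (by simp)
        rw [hwell (is a) i (hMs a) hM (ms a) a' ((hms a).trans ha.symm),
          hwell (is b) i (hMs b) hM (ms b) b' ((hms b).trans hb.symm),
          hwell (is (a + b)) i (hMs (a + b)) hM (ms (a + b)) (a' + b')
            ((hms (a + b)).trans (by rw [map_add, ha, hb])), map_add]
      map_smul' := fun r a => by
        rw [RingHom.id_apply, ← map_smul]
        congr 1
        rw [hwell (is (r • a)) (is a) (hMs (r • a)) (hMs a) (ms (r • a)) (r • ms a)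
          ((hms (r • a)).trans (by rw [(is a).app_smul, hms a])), Scheme.Modules.Hom.app_smul] }
  have hf := h V hV hzV f
  obtain ⟨M₀, i₀, -, hM₀, x₀, hx₀⟩ := exists_coh_preimage G n x
  have hφ0 : φ M₀ i₀ hM₀ = 0 := by
    haveI := hM₀.1
    refine hom_eq_zero_of_app_eq_zero hω _ hV hzV ?_
    ext m
    have h1 := congr($hf (i₀.app V m))
    change c _ = 0 at h1
    rw [hwell (is (i₀.app V m)) i₀ (hMs _) hM₀ (ms _) m (hms _)] at h1
    exact c.injective (h1.trans (map_zero c).symm)
  refine hψ ?_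
  have h2 := hφ M₀ i₀ hM₀ x₀
  rw [hφ0, CohC3.hmap_zero, map_zero] at h2
  refine Eq.trans ?_ h2
  exact congrArg ψ hx₀.symm

end Groth.Lichtenbaum
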