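import Groth.Agent.Lichtenbaum.Alg
import Groth.Agent.Lichtenbaum.DualZero
import Groth.Agent.Lichtenbaum.AffineEmb
import Groth.Agent.CohBase.FiniteBC.PushNat

/-! Vanishing of top cohomology on non-proper quasi-projective varieties. -/

set_option linter.style.haveILetI false
set_option backward.isDefEq.respectTransparency.types false
universe u

open CategoryTheory CategoryTheory.Limits AlgebraicGeometry TopologicalSpace Opposite

namespace Groth.Lichtenbaum

variable {k : Type u} [Field k]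

/-- A quasi-coherent module on the complement of a boundary point has no functionals near the image
of that point under a finite morphism. -/
theorem no_functional {U X P : Scheme.{u}} (jX : U ⟶ X) [IsOpenImmersion jX] [IsAffineHom jX]
    [IsIntegral X] [IsIntegral P] [IsLocallyNoetherian P] (φ : X ⟶ P) [IsFinite φ] (F : U.Modules)
    {z : X} (hz : z ∉ Set.range jX) (V : P.Opens) (hV : IsAffineOpen V) (hzV : φ z ∈ V)
    (f : Γ((Scheme.Modules.pushforward (jX ≫ φ)).obj F, V) →ₗ[Γ(P, V)] Γ(P, V)) : f = 0 := by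
  let VX : X.Opens := φ ⁻¹ᵁ V
  let VU : U.Opens := jX ⁻¹ᵁ VX
  have hVX : IsAffineOpen VX := hV.preimage φ
  have hVU : IsAffineOpen VU := hVX.preimage jX
  haveI : Nonempty V := ⟨⟨φ z, hzV⟩⟩
  haveI : Nonempty VX := ⟨⟨z, hzV⟩⟩
  haveI : IsDomain Γ(P, V) := IsIntegral.component_integral V
  haveI : IsDomain Γ(X, VX) := IsIntegral.component_integral VX
  haveI : IsNoetherianRing Γ(P, V) := IsLocallyNoetherian.component_noetherian ⟨V, hV⟩
  letI : Algebra Γ(P, V) Γ(X, VX) := (φ.app V).hom.toAlgebra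
  haveI : Module.Finite Γ(P, V) Γ(X, VX) := φ.finite_app V hV
  letI : Algebra Γ(X, VX) Γ(U, VU) := (jX.app VX).hom.toAlgebra
  let N := Γ((Scheme.Modules.pushforward (jX ≫ φ)).obj F, V)
  letI : Module Γ(U, VU) N := (inferInstance : Module Γ(U, VU) Γ(F, VU))
  letI : Module Γ(X, VX) N := Module.compHom N (jX.app VX).hom
  haveI : IsScalarTower Γ(X, VX) Γ(U, VU) N := IsScalarTower.of_algebraMap_smul fun _ _ => rfl
  haveI : IsScalarTower Γ(P, V) Γ(X, VX) N := IsScalarTower.of_algebraMap_smul fun _ _ => rfl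
  refine eq_zero_of_map_eq_top (B := Γ(U, VU)) (hVX.primeIdealOf ⟨z, hzV⟩).asIdeal
    (hVX.primeIdealOf ⟨z, hzV⟩).2.ne_top ?_ f
  refine (hVU.self_le_iSup_basicOpen_iff (s := (jX.app VX).hom '' _)).1 fun y hy => ?_
  have hny : ¬ z ⤳ jX y := fun h => hz (h.mem_open jX.isOpenEmbedding.isOpen_range ⟨y, rfl⟩)
  obtain ⟨a, hay, haW⟩ := QCohMod.exists_basicOpen_mem hVX (show jX y ∈ VX from hy)
    (V := ⟨(closure {z})ᶜ, isClosed_closure.isOpen_compl⟩)
    (show jX y ∈ (closure {z})ᶜ from fun h => hny (specializes_iff_mem_closure.2 h))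
  have haI : a ∈ (hVX.primeIdealOf ⟨z, hzV⟩).asIdeal := by
    by_contra ha
    have h1 : hVX.primeIdealOf ⟨z, hzV⟩ ∈ PrimeSpectrum.basicOpen a := ha
    rw [← hVX.fromSpec_preimage_basicOpen] at h1
    exact haW (show z ∈ X.basicOpen a from
      (show hVX.fromSpec (hVX.primeIdealOf ⟨z, hzV⟩) = z from hVX.fromSpec_primeIdealOf ⟨z, hzV⟩) ▸ h1)
      (subset_closure rfl)
  refine Opens.mem_iSup.2 ⟨⟨_, Set.mem_image_of_mem _ haI⟩, ?_⟩
  change y ∈ U.basicOpen (jX.app VX a)
  rw [← Scheme.preimage_basicOpen]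
  exact hay

/-- The top cohomology of quasi-coherent modules on a non-proper quasi-projective variety vanishes. -/
theorem subsingleton_HH_of_quasiProjective {U : Scheme.{u}} [IsIntegral U]
    (fU : U ⟶ Spec (CommRingCat.of k)) [IsSeparated fU] [LocallyOfFiniteType fU] [QuasiCompact fU] {N : ℕ}
    (j : U ⟶ CohB1.ProjSpaceOver N (Spec (CommRingCat.of k))) [IsImmersion j]
    (hj : j ≫ CohB1.ProjSpaceOver.toBase N (Spec (CommRingCat.of k)) = fU) (d : ℕ)
    (hd : topologicalKrullDim U ≤ d) (hnp : ¬ IsProper fU) (F : U.Modules) [F.IsQuasicoherent] :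
    Subsingleton (Coh.HH U F d) := by
  obtain ⟨M, ι, hι, hιa, hιf⟩ := exists_affine_immersion fU j hj
  haveI := hι
  haveI := hιa
  haveI : IsIntegral ι.image := Groth.PropsBasic.isIntegral_image ι
  let jX := ι.toImage
  have hfac : jX ≫ ι.imageι = ι := ι.toImage_imageι
  haveI : IsOpenImmersion jX := inferInstanceAs (IsOpenImmersion ι.toImage)
  haveI : IsAffineHom (jX ≫ ι.imageι) := by rw [hfac]; exact hιa
  haveI : IsAffineHom jX := IsAffineHom.of_comp jX ι.imageι
  let fX := ι.imageι ≫ CohB1.ProjSpace.toSpec M k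
  have hfX : jX ≫ fX = fU := by rw [← Category.assoc, hfac, hιf]
  haveI : IsProper fX := inferInstanceAs (IsProper (ι.imageι ≫ _))
  have hdimX : topologicalKrullDim ι.image ≤ d := by
    refine le_of_eq_of_le ?_ hd
    rw [← Variety2.Dim.dim_opens fX jX.opensRange
      ⟨jX (genericPoint U), ⟨genericPoint U, rfl⟩⟩]
    exact (IsHomeomorph.topologicalKrullDim_eq _ jX.isoOpensRange.hom.homeomorph.isHomeomorph).symm
  obtain ⟨z, hz⟩ : ∃ z, z ∉ Set.range jX := by
    by_contra hall
    push Not at hall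
    haveI : Surjective jX := ⟨fun x => hall x⟩
    haveI : IsIso jX := (isIso_iff_isOpenImmersion_and_surjective jX).2 ⟨inferInstance, inferInstance⟩
    exact hnp (hfX ▸ (inferInstanceAs (IsProper (jX ≫ fX))))
  obtain ⟨φ, hφ, hφf⟩ := exists_finite_to_projSpace ι.imageι d hdimX
  haveI := hφ
  haveI : IsAffineHom (jX ≫ φ) := inferInstance
  haveI := PnCoh.isLocallyNoetherian_projSpace d k
  haveI : QuasiCompact (jX ≫ φ) := inferInstance
  haveI : ((Scheme.Modules.pushforward (jX ≫ φ)).obj F).IsQuasicoherent :=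
    QCohMod.isQCoh_pushforward F (jX ≫ φ)
  have h0 : Subsingleton (Coh.HH (CohB1.ProjSpace d k) ((Scheme.Modules.pushforward (jX ≫ φ)).obj F) d) :=
    subsingleton_HH_of_no_functional _ (φ z) fun V hV hzV f => no_functional jX φ F hz V hV hzV f
  exact @Equiv.subsingleton _ _
    (CohBase.FiniteBC.pushHA (jX ≫ φ) (CohB1.ProjSpace.toSpec d k) fU F d).symm.toEquiv h0

end Groth.Lichtenbaum
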