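import Groth.Agent.CohBase.ResClass

/-! Chains of maps of resolutions killing the higher `Ext` of the terms: classes of cocycles which
vanish become coboundaries, and every class becomes the class of a cocycle. -/

universe w v u

open CategoryTheory Limits
open CategoryTheory.Abelian (Ext)
open Groth.SiteCohomology.AcyclicRes (cocyc cobound mem_cocyc mem_cobound_succ)
open Groth.CohBase

namespace Groth.Lichtenbaum

variable {C : Type u} [Category.{v} C] [Abelian C] [HasExt.{w} C] (X : C)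

/-- Composition of maps of resolutions. -/
@[simps] def homComp {R R' R'' : Res C} (φ : Res.Hom R R') (ψ : Res.Hom R' R'') : Res.Hom R R'' where
  f₀ := φ.f₀ ≫ ψ.f₀
  f n := φ.f n ≫ ψ.f n
  comm₀ := by rw [reassoc_of% φ.comm₀, ψ.comm₀, Category.assoc]
  comm n := by rw [reassoc_of% (φ.comm n), ψ.comm, Category.assoc]

/-- The identity map of a resolution. -/
@[simps] def homId (R : Res C) : Res.Hom R R where
  f₀ := 𝟙 _
  f _ := 𝟙 _
  comm₀ := by simp
  comm n := by simp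

/-- The composite `R p ⟶ R 0` of a chain. -/
def chainHom (R : ℕ → Res C) (φ : ∀ t, Res.Hom (R (t + 1)) (R t)) : ∀ p, Res.Hom (R p) (R 0)
  | 0 => homId _
  | p + 1 => homComp (φ p) (chainHom R φ p)

lemma chainHom_tail_f (R : ℕ → Res C) (φ : ∀ t, Res.Hom (R (t + 1)) (R t)) : ∀ p n,
    (chainHom (fun t => (R t).tail) (fun t => (φ t).tail) p).f n = (chainHom R φ p).f (n + 1)
  | 0, _ => rfl
  | p + 1, n => congrArg (fun g => (φ p).f (n + 1) ≫ g) (chainHom_tail_f R φ p n)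

lemma chainHom_tail_f₀ (R : ℕ → Res C) (φ : ∀ t, Res.Hom (R (t + 1)) (R t)) : ∀ p,
    cokernel.π (R p).ι ≫ (chainHom (fun t => (R t).tail) (fun t => (φ t).tail) p).f₀ =
      (chainHom R φ p).f 0 ≫ cokernel.π (R 0).ι
  | 0 => (Category.comp_id _).trans (Category.id_comp _).symm
  | p + 1 => by
    have h : cokernel.π (R (p + 1)).ι ≫ (φ p).tail.f₀ = (φ p).f 0 ≫ cokernel.π (R p).ι :=
      cokernel.π_desc _ _ _
    refine ((Category.assoc _ _ _).symm.trans (congrArg (fun g => g ≫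
      (chainHom (fun t => (R t).tail) (fun t => (φ t).tail) p).f₀) h)).trans ?_
    refine (Category.assoc _ _ _).trans (Eq.trans ?_ (Category.assoc _ _ _).symm)
    exact congrArg (fun g => (φ p).f 0 ≫ g) (chainHom_tail_f₀ R φ p)

/-- Each map of the chain kills the higher `Ext` of the terms. -/
def Kills (R : ℕ → Res C) (φ : ∀ t, Res.Hom (R (t + 1)) (R t)) (d : ℕ) : Prop :=
  ∀ t n q : ℕ, n + q + 1 ≤ d → ∀ e : Ext X ((R (t + 1)).A n) (q + 1),
    e.comp (Ext.mk₀ ((φ t).f n)) (add_zero (q + 1)) = 0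

lemma Kills.tail {R : ℕ → Res C} {φ : ∀ t, Res.Hom (R (t + 1)) (R t)} {d : ℕ}
    (h : Kills X R φ (d + 1)) : Kills X (fun t => (R t).tail) (fun t => (φ t).tail) d :=
  fun t n q hnq e => h t (n + 1) q (by omega) e

/-- A cocycle with vanishing class becomes a coboundary at the end of the chain. -/
theorem mem_cobound_of_cls_eq_zero : ∀ (p : ℕ) (R : ℕ → Res C) (φ : ∀ t, Res.Hom (R (t + 1)) (R t)),
    Kills X R φ p → ∀ z : cocyc X (R p).A (R p).d p, Res.cls X p (R p) z = 0 →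
      z.1 ≫ (chainHom R φ p).f p ∈ cobound X (R 0).A (R 0).d p
  | 0, R, φ, _, z, hz => by
    change z.1 ≫ 𝟙 _ = 0
    rw [Category.comp_id, ← Res.lift₀_ι X (R 0) z, (Ext.mk₀_eq_zero_iff _).1 hz, zero_comp]
  | 1, R, φ, _, z, hz => by
    obtain ⟨x, hx⟩ := Ext.covariant_sequence_exact₃ X (R 1).shortExact (Res.cls X 0 (R 1).tail z) rfl hz
    obtain ⟨g, rfl⟩ := (Ext.mk₀_bijective _ _).2 x
    refine (mem_cobound_succ X (R 0).A (R 0).d).2 ⟨g ≫ (φ 0).f 0, ?_⟩
    have hl := Res.cls_zero_comp_ι X (R 1).tail z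
    rw [← hx, Ext.mk₀_comp_mk₀] at hl
    change (Ext.mk₀ (g ≫ cokernel.π (R 1).ι)).comp (Ext.mk₀ (R 1).tail.ι) (add_zero 0) = _ at hl
    replace hl := (Ext.mk₀_comp_mk₀ (g ≫ cokernel.π (R 1).ι) (R 1).tail.ι).symm.trans hl
    have hz1 : z.1 = g ≫ (R 1).d 0 := by
      refine ((Ext.mk₀_bijective _ _).1 hl).symm.trans ((Category.assoc _ _ _).trans ?_)
      exact congrArg (fun h => g ≫ h) (cokernel.π_desc (R 1).ι ((R 1).d 0) (R 1).isRes.zero₀)
    change (g ≫ (φ 0).f 0) ≫ (R 0).d 0 = z.1 ≫ (φ 0).f 1 ≫ 𝟙 _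
    rw [Category.comp_id, hz1, Category.assoc, Category.assoc, (φ 0).comm]
  | p + 2, R, φ, hK, z, hz => by
    obtain ⟨x, hx⟩ :=
      Ext.covariant_sequence_exact₃ X (R (p + 2)).shortExact (Res.cls X (p + 1) (R (p + 2)).tail z) rfl hz
    let z' : cocyc X (R (p + 1)).tail.A (R (p + 1)).tail.d (p + 1) :=
      ⟨z.1 ≫ (φ (p + 1)).f (p + 2), by
        rw [mem_cocyc]
        change (z.1 ≫ (φ (p + 1)).f (p + 2)) ≫ (R (p + 1)).d (p + 2) = 0
        rw [Category.assoc, ← (φ (p + 1)).comm, ← Category.assoc, (mem_cocyc _ _ _).1 z.2, zero_comp]⟩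
    have hz' : Res.cls X (p + 1) (R (p + 1)).tail z' = 0 := by
      rw [Res.cls_map X (p + 1) (φ (p + 1)).tail z z' rfl, ← hx]
      have e : cokernel.π (R (p + 2)).ι ≫ (φ (p + 1)).tail.f₀ =
          (φ (p + 1)).f 0 ≫ cokernel.π (R (p + 1)).ι := cokernel.π_desc _ _ _
      refine (Ext.comp_assoc_of_third_deg_zero x (Ext.mk₀ (cokernel.π (R (p + 2)).ι))
        (Ext.mk₀ (φ (p + 1)).tail.f₀) _).trans ?_
      refine (congrArg (fun y => Ext.comp x y (add_zero (p + 1))) ((Ext.mk₀_comp_mk₀ _ _).trans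
        ((congrArg Ext.mk₀ e).trans (Ext.mk₀_comp_mk₀ _ _).symm))).trans ?_
      refine (Ext.comp_assoc_of_third_deg_zero x (Ext.mk₀ ((φ (p + 1)).f 0))
        (Ext.mk₀ (cokernel.π (R (p + 1)).ι)) _).symm.trans ?_
      exact (congrArg (fun y => Ext.comp y (Ext.mk₀ (cokernel.π (R (p + 1)).ι)) (add_zero (p + 1)))
        (hK (p + 1) 0 p (by omega) x)).trans (Ext.zero_comp ..)
    have := mem_cobound_of_cls_eq_zero (p + 1) _ _ (hK.tail X) z' hz'
    rw [chainHom_tail_f] at this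
    obtain ⟨g, hg⟩ := (mem_cobound_succ X _ _).1 this
    exact (mem_cobound_succ X (R 0).A (R 0).d).2 ⟨g, hg.trans (Category.assoc _ _ _)⟩

/-- Every class becomes the class of a cocycle at the end of the chain. -/
theorem exists_cls_eq : ∀ (p : ℕ) (R : ℕ → Res C) (φ : ∀ t, Res.Hom (R (t + 1)) (R t)),
    Kills X R φ p → ∀ e : Ext X (R p).Y p, ∃ z : cocyc X (R 0).A (R 0).d p,
      Res.cls X p (R 0) z = e.comp (Ext.mk₀ (chainHom R φ p).f₀) (add_zero p)
  | 0, R, φ, _, e => by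
    obtain ⟨f, rfl⟩ := (Ext.mk₀_bijective X (R 0).Y).2 e
    refine ⟨⟨f ≫ (R 0).ι, by rw [mem_cocyc, Category.assoc, (R 0).isRes.zero₀, comp_zero]⟩, ?_⟩
    rw [Res.cls_zero]
    refine Eq.trans ?_ (Ext.mk₀_comp_mk₀ _ _).symm
    congr 1
    rw [← cancel_mono (R 0).ι, Res.lift₀_ι]
    exact congrArg (fun g => g ≫ (R 0).ι) (Category.comp_id f).symm
  | p + 1, R, φ, hK, e => by
    have h1 : (e.comp (Ext.mk₀ (φ p).f₀) (add_zero (p + 1))).comp (Ext.mk₀ (R p).ι) (add_zero (p + 1)) = 0 := by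
      rw [Ext.comp_assoc_of_third_deg_zero, Ext.mk₀_comp_mk₀, ← (φ p).comm₀, ← Ext.mk₀_comp_mk₀,
        ← Ext.comp_assoc_of_third_deg_zero]
      exact hK p 0 p (by omega) _
    obtain ⟨x, hx⟩ := Ext.covariant_sequence_exact₁ X (R p).shortExact _ h1 (n₀ := p) rfl
    obtain ⟨z, hz⟩ := exists_cls_eq p _ _ (hK.tail X) x
    refine ⟨z, ?_⟩
    refine (Res.cls_succ X p (R 0) z).trans ?_
    rw [hz]
    let ψ : ShortComplex.mk (R p).ι (cokernel.π (R p).ι) (cokernel.condition (R p).ι) ⟶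
        ShortComplex.mk (R 0).ι (cokernel.π (R 0).ι) (cokernel.condition (R 0).ι) :=
      { τ₁ := (chainHom R φ p).f₀
        τ₂ := (chainHom R φ p).f 0
        τ₃ := (chainHom (fun t => (R t).tail) (fun t => (φ t).tail) p).f₀
        comm₁₂ := (chainHom R φ p).comm₀.symm
        comm₂₃ := (chainHom_tail_f₀ R φ p).symm }
    have hn := ShortComplex.ShortExact.extClass_naturality (R p).shortExact (R 0).shortExact ψ
    refine (Ext.comp_assoc_of_second_deg_zero x (Ext.mk₀ ψ.τ₃) (R 0).shortExact.extClass _).trans ?_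
    rw [← hn]
    refine (Ext.comp_assoc_of_third_deg_zero x _ _ _).symm.trans ?_
    refine Eq.trans (congrArg (fun y => Ext.comp y (Ext.mk₀ ψ.τ₁) (add_zero (p + 1))) hx) ?_
    rw [Ext.comp_assoc_of_third_deg_zero, Ext.mk₀_comp_mk₀]
    rfl

end Groth.Lichtenbaum
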